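import Cfsg.Agent.ClassicalMax.SympMinus.Lifts

/-!
An involution and an anticommuting one in block coordinates: the group induced on the fixed space, and either every
pair of isometries of the blocks is present or the centraliser of the involution normalises.
-/

set_option autoImplicit false
set_option linter.unusedSectionVars false

namespace Cfsg.Agent.ClassicalMax.SympMinus

open Matrix SympType

variable {ι : Type*} [Fintype ι] [DecidableEq ι] {κ : Type*} [Fintype κ] [DecidableEq κ] {E : Type*} [Field E]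

/-- The isometries of a matrix form. -/
def Iso (J : Matrix ι ι E) : Subgroup (GL ι E) where
  carrier := {g | (g : Matrix ι ι E)ᵀ * J * (g : Matrix ι ι E) = J}
  one_mem' := by simp
  mul_mem' := fun {a b} ha hb => by
    simp only [Set.mem_ofPred_eq, Units.val_mul, Matrix.transpose_mul] at ha hb ⊢
    calc (b : Matrix ι ι E)ᵀ * (a : Matrix ι ι E)ᵀ * J * ((a : Matrix ι ι E) * b)
        = (b : Matrix ι ι E)ᵀ * ((a : Matrix ι ι E)ᵀ * J * a) * b := by simp only [Matrix.mul_assoc]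
      _ = J := by rw [ha, hb]
  inv_mem' := fun {a} ha => by
    simp only [Set.mem_ofPred_eq] at ha ⊢
    calc ((a⁻¹ : GL ι E) : Matrix ι ι E)ᵀ * J * ((a⁻¹ : GL ι E) : Matrix ι ι E)
        = ((a⁻¹ : GL ι E) : Matrix ι ι E)ᵀ * ((a : Matrix ι ι E)ᵀ * J * a) * ((a⁻¹ : GL ι E) : Matrix ι ι E) := by
          rw [ha]
      _ = ((a : Matrix ι ι E) * ((a⁻¹ : GL ι E) : Matrix ι ι E))ᵀ * J *
          ((a : Matrix ι ι E) * ((a⁻¹ : GL ι E) : Matrix ι ι E)) := by
          simp only [Matrix.transpose_mul, Matrix.mul_assoc]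
      _ = J := by rw [Units.mul_inv]; simp

theorem mem_iso {J : Matrix ι ι E} {g : GL ι E} : g ∈ Iso J ↔ (g : Matrix ι ι E)ᵀ * J * (g : Matrix ι ι E) = J :=
  Iff.rfl

theorem iso_skew {J : Matrix ι ι E} {a : GL ι E} (ha : a ∈ Iso J) (a2 : a * a = -1) :
    (a : Matrix ι ι E)ᵀ * J = -(J * a) := by
  have e : (a : Matrix ι ι E) * a = -1 := by rw [← Units.val_mul, a2, Units.val_neg, Units.val_one]
  calc (a : Matrix ι ι E)ᵀ * J = -((a : Matrix ι ι E)ᵀ * J * ((a : Matrix ι ι E) * a)) := by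
        rw [e, Matrix.mul_neg, Matrix.mul_one, neg_neg]
    _ = -((a : Matrix ι ι E)ᵀ * J * a * a) := by simp only [Matrix.mul_assoc]
    _ = _ := by rw [mem_iso.1 ha]

/-- The centraliser of an involution acts monomially on its fixed space. -/
def Small (R K : Subgroup (GL ι E)) (x : GL ι E) : Prop :=
  ∀ g ∈ K, g * x = x * g → ∀ u ∈ R, u * x = x * u → ∃ r ∈ R,
    (1 + (x : Matrix ι ι E)) * ((g * u * g⁻¹ : GL ι E) : Matrix ι ι E) = (1 + (x : Matrix ι ι E)) * (r : Matrix ι ι E)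

/-- The overgroups of the normaliser within the isometries. -/
def Dich (J : Matrix ι ι E) : Prop :=
  ∀ R : Subgroup (GL ι E), SR R → Minus R → R ≤ Iso J → ∀ K : Subgroup (GL ι E), K ≤ Iso J →
    (∀ g ∈ Iso J, Nm R g → g ∈ K) → (∀ g ∈ K, Nm R g) ∨ Iso J ≤ K

/-- Normal subgroups of the isometries are central or everything. -/
def Simple (J : Matrix ι ι E) : Prop :=
  ∀ L : Subgroup (GL ι E), L ≤ Iso J → (∀ g ∈ Iso J, ∀ l ∈ L, g * l * g⁻¹ ∈ L) → (∃ l ∈ L, NC l) → Iso J ≤ L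

/-- block diagonal -/
def dgHom : GL κ E × GL κ E →* GL (κ ⊕ κ) E where
  toFun p := ⟨Matrix.fromBlocks (p.1 : Matrix κ κ E) 0 0 (p.2 : Matrix κ κ E),
    Matrix.fromBlocks ((p.1⁻¹ : GL κ E) : Matrix κ κ E) 0 0 ((p.2⁻¹ : GL κ E) : Matrix κ κ E),
    by simp [Matrix.fromBlocks_multiply], by simp [Matrix.fromBlocks_multiply]⟩
  map_one' := Units.ext (by simp)
  map_mul' p q := Units.ext (by simp [Matrix.fromBlocks_multiply])

/-- two diagonal blocks -/
def dg (a b : GL κ E) : GL (κ ⊕ κ) E := dgHom (a, b)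

/-- the interchange of the blocks -/
def sw : GL (κ ⊕ κ) E :=
  ⟨Matrix.fromBlocks 0 1 1 0, Matrix.fromBlocks 0 1 1 0, by simp [Matrix.fromBlocks_multiply],
    by simp [Matrix.fromBlocks_multiply]⟩

theorem dg_val (a b : GL κ E) :
    ((dg a b : GL (κ ⊕ κ) E) : Matrix (κ ⊕ κ) (κ ⊕ κ) E) = Matrix.fromBlocks (a : Matrix κ κ E) 0 0 (b : Matrix κ κ E) :=
  rfl

theorem dg_mul (a b c d : GL κ E) : dg a b * dg c d = dg (a * c) (b * d) := by
  rw [dg, dg, dg, ← map_mul]; rfl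

theorem dg_inv (a b : GL κ E) : (dg a b)⁻¹ = dg a⁻¹ b⁻¹ := by rw [dg, dg, ← map_inv]; rfl

theorem dg_one : dg (1 : GL κ E) 1 = 1 := map_one dgHom

theorem dg_inj {a b c d : GL κ E} (e : dg a b = dg c d) : a = c ∧ b = d := by
  have e' := congrArg Units.val e
  rw [dg_val, dg_val, Matrix.fromBlocks_inj] at e'
  exact ⟨Units.ext e'.1, Units.ext e'.2.2.2⟩

theorem neg_dg (a b : GL κ E) : -dg a b = dg (-a) (-b) :=
  Units.ext (by rw [Units.val_neg, dg_val, dg_val, Matrix.fromBlocks_neg, neg_zero, Units.val_neg, Units.val_neg])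

theorem neg_one_dg : (-1 : GL (κ ⊕ κ) E) = dg (-1 : GL κ E) (-1 : GL κ E) := by rw [← neg_dg, dg_one]

theorem sw_sq : (sw : GL (κ ⊕ κ) E) * sw = 1 := Units.ext (by simp [sw, Matrix.fromBlocks_multiply])

theorem sw_dg (a b : GL κ E) : sw * dg a b = dg b a * sw :=
  Units.ext (by simp [sw, dg_val, Matrix.fromBlocks_multiply])

theorem sw_conj (a b : GL κ E) : sw * dg a b * sw = dg b a := by rw [sw_dg, mul_assoc, sw_sq, mul_one]

theorem dg_mem_iso {J : Matrix κ κ E} {a b : GL κ E} :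
    dg a b ∈ Iso (Matrix.fromBlocks J 0 0 J) ↔ a ∈ Iso J ∧ b ∈ Iso J := by
  simp [mem_iso, dg_val, Matrix.fromBlocks_transpose, Matrix.fromBlocks_multiply, Matrix.fromBlocks_inj]

theorem sw_mem_iso (J : Matrix κ κ E) : sw ∈ Iso (Matrix.fromBlocks J 0 0 J) := by
  simp [mem_iso, sw, Matrix.fromBlocks_transpose, Matrix.fromBlocks_multiply]

theorem nc_pos {x : GL ι E} (hx : NC x) : Nonempty ι := by
  by_contra hn
  rw [not_nonempty_iff] at hn
  exact hx.1 (Units.ext (Matrix.ext fun i => isEmptyElim i))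

theorem comm_dg (h2 : (2 : E) ≠ 0) {g : GL (κ ⊕ κ) E} (e : g * dg (1 : GL κ E) (-1) = dg (1 : GL κ E) (-1) * g) :
    ∃ a b, g = dg a b := by
  have key : ∀ g : GL (κ ⊕ κ) E, g * dg (1 : GL κ E) (-1) = dg (1 : GL κ E) (-1) * g →
      ∃ A B : Matrix κ κ E, (g : Matrix (κ ⊕ κ) (κ ⊕ κ) E) = Matrix.fromBlocks A 0 0 B := by
    intro g e
    have e' := congrArg Units.val e
    obtain ⟨A, B, C, D, hg⟩ : ∃ A B C D, (g : Matrix (κ ⊕ κ) (κ ⊕ κ) E) = Matrix.fromBlocks A B C D :=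
      ⟨_, _, _, _, (Matrix.fromBlocks_toBlocks _).symm⟩
    rw [Units.val_mul, Units.val_mul, dg_val, hg, Matrix.fromBlocks_multiply, Matrix.fromBlocks_multiply,
      Matrix.fromBlocks_inj] at e'
    simp only [Units.val_neg, Units.val_one, Matrix.mul_neg, Matrix.mul_one, Matrix.mul_zero, Matrix.neg_mul,
      Matrix.one_mul, Matrix.zero_mul, add_zero, zero_add] at e'
    obtain ⟨-, e1, e2, -⟩ := e'
    have z : ∀ N : Matrix κ κ E, -N = N → N = 0 := fun N hN =>
      (smul_eq_zero.1 (show (2 : E) • N = 0 by rw [two_smul]; nth_rw 1 [← hN]; exact neg_add_cancel N)).resolve_left h2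
    exact ⟨A, D, by rw [hg, z B e1, z C e2.symm]⟩
  obtain ⟨A, B, hg⟩ := key g e
  obtain ⟨A', B', hg'⟩ := key g⁻¹ (by rw [inv_mul_eq_iff_eq_mul, ← mul_assoc, e, mul_inv_cancel_right])
  have e1 : (g : Matrix (κ ⊕ κ) (κ ⊕ κ) E) * ((g⁻¹ : GL (κ ⊕ κ) E) : Matrix (κ ⊕ κ) (κ ⊕ κ) E) = 1 := Units.mul_inv g
  have e2 : ((g⁻¹ : GL (κ ⊕ κ) E) : Matrix (κ ⊕ κ) (κ ⊕ κ) E) * (g : Matrix (κ ⊕ κ) (κ ⊕ κ) E) = 1 := Units.inv_mul g
  rw [hg, hg', Matrix.fromBlocks_multiply, ← Matrix.fromBlocks_one, Matrix.fromBlocks_inj] at e1 e2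
  simp only [Matrix.mul_zero, Matrix.zero_mul, add_zero, zero_add] at e1 e2
  exact ⟨⟨A, A', e1.1, e2.1⟩, ⟨B, B', e1.2.2.2, e2.2.2.2⟩, Units.ext hg⟩

/-- A group containing the standard involution and the interchange, and an overgroup of its normaliser. -/
structure Blk (J : Matrix κ κ E) (R K : Subgroup (GL (κ ⊕ κ) E)) : Prop where
  sr : SR R
  minus : Minus R
  le : R ≤ Iso (Matrix.fromBlocks J 0 0 J)
  kle : K ≤ Iso (Matrix.fromBlocks J 0 0 J)
  knm : ∀ g ∈ Iso (Matrix.fromBlocks J 0 0 J), Nm R g → g ∈ K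
  hx : dg (1 : GL κ E) (-1) ∈ R
  hy : sw ∈ R
  jne : J ≠ 0

/-- The group on one block. -/
def base (R : Subgroup (GL (κ ⊕ κ) E)) : Subgroup (GL κ E) :=
  R.comap (dgHom.comp ((MonoidHom.id (GL κ E)).prod (MonoidHom.id (GL κ E))))

theorem mem_base {R : Subgroup (GL (κ ⊕ κ) E)} {a : GL κ E} : a ∈ base R ↔ dg a a ∈ R := Iff.rfl

/-- The elements induced on the first block. -/
def fstB (K : Subgroup (GL (κ ⊕ κ) E)) : Subgroup (GL κ E) :=
  (K.comap dgHom).map (MonoidHom.fst (GL κ E) (GL κ E))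

theorem mem_fstB {K : Subgroup (GL (κ ⊕ κ) E)} {a : GL κ E} : a ∈ fstB K ↔ ∃ b, dg a b ∈ K := by
  constructor
  · rintro ⟨⟨a, b⟩, hab, rfl⟩
    exact ⟨b, hab⟩
  · rintro ⟨b, hb⟩
    exact ⟨(a, b), hb, rfl⟩

namespace Blk

variable [Finite E] {J : Matrix κ κ E} {R K : Subgroup (GL (κ ⊕ κ) E)} (hB : Blk J R K)
include hB

theorem mem_k {g : GL (κ ⊕ κ) E} (hg : g ∈ R) : g ∈ K := hB.knm g (hB.le hg) (nm_of_mem hg)

theorem dg_neg_mem {a : GL κ E} (ha : a ∈ base R) : dg a (-a) ∈ R := by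
  have := mul_mem hB.hx (mem_base.1 ha)
  rwa [dg_mul, one_mul, neg_one_mul] at this

theorem cases {r : GL (κ ⊕ κ) E} (hr : r ∈ R) (e : r * dg (1 : GL κ E) (-1) = dg (1 : GL κ E) (-1) * r) :
    ∃ a ∈ base R, r = dg a a ∨ r = dg a (-a) := by
  obtain ⟨a, b, rfl⟩ := comm_dg hB.sr.two e
  rcases hB.sr.comm _ hB.hy _ hr with e' | e'
  · rw [sw_dg] at e'
    obtain ⟨rfl, -⟩ := dg_inj (mul_right_cancel e')
    exact ⟨b, mem_base.2 hr, Or.inl rfl⟩
  · rw [sw_dg, ← neg_mul, neg_dg] at e'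
    obtain ⟨rfl, -⟩ := dg_inj (mul_right_cancel e')
    have := mul_mem hB.hx hr
    rw [dg_mul, one_mul, neg_one_mul] at this
    exact ⟨a, mem_base.2 (by simpa using this), Or.inr (by simp)⟩

theorem anti_sw : (dg (1 : GL κ E) (-1) : GL (κ ⊕ κ) E) * sw = -(sw * dg (1 : GL κ E) (-1)) := by
  rw [sw_dg, ← neg_mul, neg_dg, neg_neg]

theorem split {r : GL (κ ⊕ κ) E} (hr : r ∈ R) :
    r * dg (1 : GL κ E) (-1) = dg (1 : GL κ E) (-1) * r ∨ sw * r * dg (1 : GL κ E) (-1) = dg (1 : GL κ E) (-1) * (sw * r) := by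
  rcases hB.sr.comm r hr _ hB.hx with e | e
  · exact Or.inl e
  · right
    rw [mul_assoc, e, mul_neg, ← mul_assoc (dg (1 : GL κ E) (-1)) sw r, hB.anti_sw, neg_mul, mul_assoc]

/-- Four times the order of the group on a block. -/
theorem card_base : Nat.card R = 4 * Nat.card (base R) := by
  classical
  have hsgn : ∀ i : Bool, (dg (1 : GL κ E) (bif i then (-1 : GL κ E) else 1)) ∈ R := fun i => by
    cases i
    · simp [dg_one, one_mem]
    · exact hB.hx
  obtain ⟨f, hf⟩ : ∃ f : base R × Bool × Bool → R, ∀ t, ((f t) : GL (κ ⊕ κ) E) =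
      (bif t.2.2 then sw else 1) * (dg (1 : GL κ E) (bif t.2.1 then (-1 : GL κ E) else 1) * dg t.1.1 t.1.1) :=
    ⟨fun t => ⟨_, mul_mem (by cases t.2.2; exacts [one_mem R, hB.hy]) (mul_mem (hsgn _) t.1.2)⟩, fun t => rfl⟩
  have hne : Nonempty κ := by
    obtain ⟨i⟩ := hB.sr.nonempty
    exact ⟨i.elim id id⟩
  have hnd : ∀ a b c d : GL κ E, sw * dg a b ≠ dg c d := fun a b c d e => by
    haveI := hne
    have := congrArg Units.val e
    simp [sw, dg_val, Matrix.fromBlocks_multiply, Matrix.fromBlocks_inj] at this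
  have hbij : Function.Bijective f := by
    constructor
    · rintro ⟨a, i, j⟩ ⟨a', i', j'⟩ e
      have e1 := congrArg Subtype.val e
      rw [hf, hf, dg_mul, dg_mul, one_mul, one_mul] at e1
      dsimp only at e1
      have hjj : j = j' := by
        cases j <;> cases j' <;> simp only [cond_true, cond_false, one_mul] at e1
        · rfl
        · exact absurd e1.symm (hnd _ _ _ _)
        · exact absurd e1 (hnd _ _ _ _)
        · rfl
      subst hjj
      obtain ⟨e2, e3⟩ := dg_inj (mul_left_cancel e1)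
      obtain rfl : a = a' := Subtype.ext e2
      have hii : i = i' := by
        have e4 := mul_right_cancel e3
        have hneq : (1 : GL κ E) ≠ -1 := fun e => by
          have h1 : (2 : E) • (1 : Matrix κ κ E) = 0 := by
            rw [two_smul]
            nth_rw 2 [show (1 : Matrix κ κ E) = -1 by simpa using congrArg Units.val e]
            exact add_neg_cancel _
          obtain ⟨i⟩ := hne
          have := congrFun (congrFun h1 i) i
          simp [hB.sr.two] at this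
        cases i <;> cases i' <;> simp only [cond_true, cond_false] at e4
        · rfl
        · exact absurd e4 hneq
        · exact absurd e4.symm hneq
        · rfl
      subst hii
      rfl
    · rintro ⟨r, hr⟩
      rcases hB.split hr with e | e
      · obtain ⟨a, ha, rfl | rfl⟩ := hB.cases hr e
        · exact ⟨(⟨a, ha⟩, false, false), Subtype.ext (by simp [hf, dg_one])⟩
        · exact ⟨(⟨a, ha⟩, true, false), Subtype.ext (by simp [hf, dg_mul])⟩
      · obtain ⟨a, ha, e' | e'⟩ := hB.cases (mul_mem hB.hy hr) e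
        · refine ⟨(⟨a, ha⟩, false, true), Subtype.ext ?_⟩
          simp [hf, dg_one]
          rw [← e', ← mul_assoc, sw_sq, one_mul]
        · refine ⟨(⟨a, ha⟩, true, true), Subtype.ext ?_⟩
          simp [hf, dg_mul]
          rw [← e', ← mul_assoc, sw_sq, one_mul]
  rw [← Nat.card_eq_of_bijective f hbij, Nat.card_prod, Nat.card_prod, Nat.card_eq_fintype_card (α := Bool),
    Fintype.card_bool]
  ring

theorem sr_base : SR (base R) := by
  have hne : Nonempty κ := by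
    obtain ⟨i⟩ := hB.sr.nonempty
    exact ⟨i.elim id id⟩
  refine ⟨hB.sr.two, mem_base.2 (neg_one_dg (κ := κ) (E := E) ▸ hB.sr.neg), ?_, ?_, ?_, ?_, ?_⟩
  · intro a ha b hb
    rcases hB.sr.comm _ ha _ hb with e | e
    · exact Or.inl (dg_inj (by rwa [← dg_mul, ← dg_mul])).1
    · exact Or.inr (dg_inj (a := a * b) (b := a * b) (by rwa [← dg_mul, ← neg_dg, ← dg_mul])).1
  · intro a ha
    rcases hB.sr.sq _ ha with e | e
    · exact Or.inl (dg_inj (a := a * a) (b := a * a) (by rwa [← dg_mul, dg_one])).1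
    · exact Or.inr (dg_inj (a := a * a) (b := a * a) (by rwa [← dg_mul, ← neg_one_dg])).1
  · intro a ha hc
    have hcd : ∀ r ∈ R, r * dg (1 : GL κ E) (-1) = dg (1 : GL κ E) (-1) * r → dg a a * r = r * dg a a := by
      intro r hr e
      obtain ⟨b, hb, rfl | rfl⟩ := hB.cases hr e <;> rw [dg_mul, dg_mul] <;> simp [hc b hb]
    have hs : dg a a * sw = sw * dg a a := (sw_dg a a).symm
    have hall : ∀ r ∈ R, dg a a * r = r * dg a a := by
      intro r hr
      rcases hB.split hr with e | e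
      · exact hcd r hr e
      · have h1 := hcd _ (mul_mem hB.hy hr) e
        rw [← mul_assoc, hs, mul_assoc, mul_assoc] at h1
        exact mul_left_cancel h1
    rcases hB.sr.pm _ ha hall with e | e
    · exact Or.inl (dg_inj (a := a) (b := a) (by rwa [dg_one])).1
    · exact Or.inr (dg_inj (a := a) (b := a) (by rwa [← neg_one_dg])).1
  · intro N hN
    obtain ⟨c, hc⟩ := hB.sr.irr (Matrix.fromBlocks N 0 0 N) fun r hr => by
      have hcd : ∀ r ∈ R, r * dg (1 : GL κ E) (-1) = dg (1 : GL κ E) (-1) * r →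
          Matrix.fromBlocks N 0 0 N * (r : Matrix (κ ⊕ κ) (κ ⊕ κ) E) = r * Matrix.fromBlocks N 0 0 N := by
        intro r hr e
        obtain ⟨b, hb, rfl | rfl⟩ := hB.cases hr e <;> simp [dg_val, Matrix.fromBlocks_multiply, hN b hb]
      rcases hB.split hr with e | e
      · exact hcd r hr e
      · have h1 := hcd _ (mul_mem hB.hy hr) e
        have hs : Matrix.fromBlocks N 0 0 N * ((sw : GL (κ ⊕ κ) E) : Matrix (κ ⊕ κ) (κ ⊕ κ) E) =
            ((sw : GL (κ ⊕ κ) E) : Matrix (κ ⊕ κ) (κ ⊕ κ) E) * Matrix.fromBlocks N 0 0 N := by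
          simp [sw, Matrix.fromBlocks_multiply]
        have er : (r : Matrix (κ ⊕ κ) (κ ⊕ κ) E) =
            ((sw : GL (κ ⊕ κ) E) : Matrix (κ ⊕ κ) (κ ⊕ κ) E) * ((sw * r : GL (κ ⊕ κ) E) : Matrix (κ ⊕ κ) (κ ⊕ κ) E) := by
          rw [← Units.val_mul, ← mul_assoc, sw_sq, one_mul]
        rw [er, ← Matrix.mul_assoc, hs, Matrix.mul_assoc, h1, ← Matrix.mul_assoc]
    refine ⟨c, ?_⟩
    rw [← Matrix.fromBlocks_one, Matrix.fromBlocks_smul, Matrix.fromBlocks_inj] at hc
    exact hc.1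
  · have := hB.card_base
    rw [hB.sr.card, Fintype.card_sum] at this
    nlinarith

theorem minus_base : Minus (base R) := by
  classical
  intro A hA hcomm hsq
  have hne : Nonempty κ := by
    obtain ⟨i⟩ := hB.sr.nonempty
    exact ⟨i.elim id id⟩
  obtain ⟨B, hBdef⟩ : ∃ B : Subgroup (GL (κ ⊕ κ) E), ∀ g, g ∈ B ↔ ∃ a ∈ A, g = dg a a ∨ g = dg a (-a) := by
    refine ⟨{ carrier := {g | ∃ a ∈ A, g = dg a a ∨ g = dg a (-a)}
              one_mem' := ⟨1, one_mem A, Or.inl dg_one.symm⟩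
              mul_mem' := ?_
              inv_mem' := ?_ }, fun g => Iff.rfl⟩
    · rintro u v ⟨a, ha, hu⟩ ⟨b, hb, hv⟩
      refine ⟨a * b, mul_mem ha hb, ?_⟩
      rcases hu with rfl | rfl <;> rcases hv with rfl | rfl <;> simp [dg_mul]
    · rintro u ⟨a, ha, hu⟩
      refine ⟨a⁻¹, inv_mem ha, ?_⟩
      rcases hu with rfl | rfl <;> simp [dg_inv]
  have h1 := hB.minus B (fun g hg => by
      obtain ⟨a, ha, rfl | rfl⟩ := (hBdef g).1 hg
      exacts [hA ha, hB.dg_neg_mem (hA ha)])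
    (fun u hu v hv => by
      obtain ⟨a, ha, rfl | rfl⟩ := (hBdef u).1 hu <;> obtain ⟨b, hb, rfl | rfl⟩ := (hBdef v).1 hv <;>
        simp [dg_mul, hcomm a ha b hb])
    (fun u hu => by
      obtain ⟨a, ha, rfl | rfl⟩ := (hBdef u).1 hu <;> simp [dg_mul, hsq a ha, dg_one])
  obtain ⟨f, hf⟩ : ∃ f : A × Bool → B, ∀ t, ((f t) : GL (κ ⊕ κ) E) = dg t.1.1 (bif t.2 then -t.1.1 else t.1.1) :=
    ⟨fun t => ⟨dg t.1.1 (bif t.2 then -t.1.1 else t.1.1), (hBdef _).2 ⟨t.1.1, t.1.2, by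
      cases t.2 <;> simp⟩⟩, fun t => rfl⟩
  have hinj : Function.Injective f := by
    rintro ⟨a, i⟩ ⟨a', i'⟩ e
    have e1 := congrArg Subtype.val e
    rw [hf, hf] at e1
    obtain ⟨e2, e3⟩ := dg_inj e1
    obtain rfl : a = a' := Subtype.ext e2
    have hn := hB.sr_base.ne_neg (a : GL κ E)
    cases i <;> cases i' <;> simp only [cond_true, cond_false] at e3
    · rfl
    · exact absurd e3 hn
    · exact absurd e3.symm hn
    · rfl
  have h2 := Nat.card_le_card_of_injective f hinj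
  rw [Nat.card_prod, Nat.card_eq_fintype_card (α := Bool), Fintype.card_bool] at h2
  rw [Fintype.card_sum] at h1
  omega

theorem base_le : base R ≤ Iso J := fun _ ha => (dg_mem_iso.1 (hB.le ha)).1

theorem diag_nm {s : GL κ E} (hs : Nm (base R) s) : Nm R (dg s s) := by
  have main : ∀ r ∈ R, r * dg (1 : GL κ E) (-1) = dg (1 : GL κ E) (-1) * r → dg s s * r * (dg s s)⁻¹ ∈ R := by
    intro r hr e
    obtain ⟨a, ha, rfl | rfl⟩ := hB.cases hr e <;> rw [dg_inv, dg_mul, dg_mul]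
    · exact hs a ha
    · rw [mul_neg, neg_mul]
      exact hB.dg_neg_mem (hs a ha)
  intro r hr
  rcases hB.split hr with e | e
  · exact main r hr e
  · have h1 := mul_mem hB.hy (main _ (mul_mem hB.hy hr) e)
    rwa [show sw * (dg s s * (sw * r) * (dg s s)⁻¹) = sw * dg s s * sw * (r * (dg s s)⁻¹) by group, sw_conj,
      ← mul_assoc] at h1

theorem diag_mem {s : GL κ E} (hsJ : s ∈ Iso J) (hs : Nm (base R) s) : dg s s ∈ K :=
  hB.knm _ (dg_mem_iso.2 ⟨hsJ, hsJ⟩) (hB.diag_nm hs)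

theorem one_base_nm {u : GL κ E} (hu : u ∈ base R) : Nm R (dg 1 u) := by
  have main : ∀ r ∈ R, r * dg (1 : GL κ E) (-1) = dg (1 : GL κ E) (-1) * r → dg 1 u * r * (dg 1 u)⁻¹ ∈ R := by
    intro r hr e
    obtain ⟨a, ha, hr'⟩ := hB.cases hr e
    rcases hB.sr_base.comm u hu a ha with e' | e' <;> rcases hr' with rfl | rfl <;>
      rw [dg_inv, dg_mul, dg_mul, inv_one, mul_one, one_mul]
    · rw [e', mul_inv_cancel_right]; exact ha
    · rw [mul_neg, neg_mul, e', mul_inv_cancel_right]; exact hB.dg_neg_mem ha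
    · rw [e', neg_mul, mul_inv_cancel_right]; exact hB.dg_neg_mem ha
    · rw [mul_neg, neg_mul, e', neg_mul, neg_neg, mul_inv_cancel_right]; exact ha
  have hy : dg 1 u * sw * (dg 1 u)⁻¹ ∈ R := by
    have hc : dg 1 u * sw * (dg 1 u)⁻¹ = dg u⁻¹ u * sw := by
      rw [dg_inv, mul_assoc, sw_dg, ← mul_assoc, dg_mul]; simp
    rw [hc]
    refine mul_mem ?_ hB.hy
    rcases hB.sr_base.sq u hu with e | e
    · rw [inv_eq_of_mul_eq_one_right e]; exact hu
    · rw [inv_eq_of_mul_eq_one_right (a := u) (b := -u) (by rw [mul_neg, e, neg_neg])]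
      have := mul_mem (hB.dg_neg_mem hu) hB.sr.neg
      rwa [neg_one_dg, dg_mul, mul_neg_one, mul_neg_one, neg_neg] at this
  intro r hr
  rcases hB.split hr with e | e
  · exact main r hr e
  · have h1 := mul_mem hy (main _ (mul_mem hB.hy hr) e)
    rwa [show dg 1 u * sw * (dg 1 u)⁻¹ * (dg 1 u * (sw * r) * (dg 1 u)⁻¹) =
      dg 1 u * (sw * sw) * r * (dg 1 u)⁻¹ by group, sw_sq, mul_one] at h1

theorem one_base_mem {u : GL κ E} (hu : u ∈ base R) : dg 1 u ∈ K :=
  hB.knm _ (dg_mem_iso.2 ⟨one_mem _, hB.base_le hu⟩) (hB.one_base_nm hu)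

theorem small_of_nm (hn : ∀ g ∈ fstB K, Nm (base R) g) : Small R K (dg (1 : GL κ E) (-1)) := by
  intro g hg e u hu e'
  obtain ⟨g₁, g₂, rfl⟩ := comm_dg hB.sr.two e
  obtain ⟨a, ha, hua⟩ := hB.cases hu e'
  have hc := hn g₁ (mem_fstB.2 ⟨g₂, hg⟩) a ha
  refine ⟨dg (g₁ * a * g₁⁻¹) (g₁ * a * g₁⁻¹), hc, ?_⟩
  rcases hua with rfl | rfl <;>
    simp [dg_mul, dg_inv, dg_val, ← Matrix.fromBlocks_one, Matrix.fromBlocks_add, Matrix.fromBlocks_multiply,
      Matrix.mul_assoc]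

theorem nm_of_small (hs : Small R K (dg (1 : GL κ E) (-1))) : ∀ g ∈ fstB K, Nm (base R) g := by
  intro g hg a ha
  obtain ⟨g₂, hg₂⟩ := mem_fstB.1 hg
  obtain ⟨r, hr, e⟩ := hs _ hg₂ (by rw [dg_mul, dg_mul]; simp) _ (mem_base.1 ha) (by rw [dg_mul, dg_mul]; simp)
  have hne : Nonempty κ := by
    obtain ⟨i⟩ := hB.sr.nonempty
    exact ⟨i.elim id id⟩
  rw [dg_inv, dg_mul, dg_mul] at e
  rcases hB.split hr with e' | e'
  · obtain ⟨b, hb, hr'⟩ := hB.cases hr e'
    have : g * a * g⁻¹ = b := by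
      rcases hr' with rfl | rfl <;>
        simp [dg_val, ← Matrix.fromBlocks_one, Matrix.fromBlocks_add, Matrix.fromBlocks_multiply,
          Matrix.fromBlocks_inj] at e <;>
        refine Units.ext (smul_right_injective (Matrix κ κ E) hB.sr.two ?_) <;>
        simpa [two_smul, Matrix.add_mul, Matrix.mul_assoc] using e
    rw [this]
    exact hb
  · exfalso
    obtain ⟨b, hb, hr'⟩ := hB.cases (mul_mem hB.hy hr) e'
    have er : r = sw * (sw * r) := by rw [← mul_assoc, sw_sq, one_mul]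
    rcases hr' with h1 | h1 <;> rw [er, h1] at e <;>
      simp [dg_val, sw, ← Matrix.fromBlocks_one, Matrix.fromBlocks_add, Matrix.fromBlocks_multiply,
        Matrix.fromBlocks_inj] at e <;>
      obtain ⟨e1, -⟩ := e <;>
      refine (g * a * g⁻¹ : GL κ E).ne_zero ((smul_eq_zero.1 (show (2 : E) • ((g * a * g⁻¹ : GL κ E) :
        Matrix κ κ E) = 0 from ?_)).resolve_left hB.sr.two) <;>
      simpa [two_smul, Matrix.add_mul, Matrix.mul_assoc] using e1

/-- Monomial on the fixed space, or both blocks are full. -/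
theorem small_or_full (hT : Dich J) (hS : Simple J) (hn : 4 ≤ Fintype.card κ) :
    Small R K (dg (1 : GL κ E) (-1)) ∨ ∀ a ∈ Iso J, ∀ b ∈ Iso J, dg a b ∈ K := by
  rcases hT (base R) hB.sr_base hB.minus_base hB.base_le (fstB K)
      (fun a ha => by obtain ⟨b, hb⟩ := mem_fstB.1 ha; exact (dg_mem_iso.1 (hB.kle hb)).1)
      (fun s hs hn => mem_fstB.2 ⟨s, hB.diag_mem hs hn⟩) with h1 | h1
  · exact Or.inl (hB.small_of_nm h1)
  right
  obtain ⟨L, hL⟩ : ∃ L : Subgroup (GL κ E), ∀ b, b ∈ L ↔ dg 1 b ∈ K :=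
    ⟨K.comap (dgHom.comp (MonoidHom.inr (GL κ E) (GL κ E))), fun b => Iff.rfl⟩
  have hfull : Iso J ≤ L := by
    refine hS L (fun b hb => (dg_mem_iso.1 (hB.kle ((hL b).1 hb))).2) (fun g hg l hl => ?_) ?_
    · obtain ⟨c, hc⟩ := mem_fstB.1 (h1 hg)
      have hc' := mul_mem (mul_mem (hB.mem_k hB.hy) hc) (hB.mem_k hB.hy)
      rw [sw_conj] at hc'
      rw [hL] at hl ⊢
      have := mul_mem (mul_mem hc' hl) (inv_mem hc')
      rwa [dg_inv, dg_mul, dg_mul, mul_one, mul_inv_cancel] at this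
    · obtain ⟨r, hr, hr1⟩ : ∃ r ∈ base R, NC r := by
        by_contra hc
        push Not at hc
        have hsub : (base R : Set (GL κ E)) ⊆ {1, -1} := fun r hr => by
          have := hc r hr
          simp only [NC, not_and_or, not_not] at this
          simpa using this
        have h3 := Set.ncard_le_ncard hsub (Set.toFinite _)
        rw [← Nat.card_coe_set_eq] at h3
        change Nat.card (base R) ≤ _ at h3
        rw [hB.sr_base.card] at h3
        have := (Set.ncard_insert_le (1 : GL κ E) {-1}).trans_eq (by rw [Set.ncard_singleton])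
        nlinarith
      exact ⟨r, (hL r).2 (hB.one_base_mem hr), hr1⟩
  intro a ha b hb
  have h2 := mul_mem (mul_mem (mul_mem (hB.mem_k hB.hy) ((hL a).1 (hfull ha))) (hB.mem_k hB.hy))
    ((hL b).1 (hfull hb))
  rwa [sw_conj, dg_mul, mul_one, one_mul] at h2

/-- If all act monomially the centraliser normalises. -/
theorem cent_nm (hn : 4 ≤ Fintype.card κ) (hall : ∀ w ∈ R, w * w = 1 → NC w → Small R K w)
    {g : GL (κ ⊕ κ) E} (hg : g ∈ K) (e : g * dg (1 : GL κ E) (-1) = dg (1 : GL κ E) (-1) * g) : Nm R g := by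
  have h0 := hB.sr_base
  have hne := h0.nonempty
  have hxnc : NC (dg (1 : GL κ E) (-1) : GL (κ ⊕ κ) E) := hB.sr.nc_of_sg ((hB.sr.sg_neg_iff hB.hx hB.hy).2 hB.anti_sw)
  have hfst := hB.nm_of_small (hall _ hB.hx (by rw [dg_mul]; simp [dg_one]) hxnc)
  obtain ⟨g₁, g₂, rfl⟩ := comm_dg hB.sr.two e
  have hg₁J := (dg_mem_iso.1 (hB.kle hg)).1
  have hg₁ := hfst g₁ (mem_fstB.2 ⟨g₂, hg⟩)
  have hd := hB.diag_mem hg₁J hg₁
  have hb : dg 1 (g₁⁻¹ * g₂) ∈ K := by
    have := mul_mem (inv_mem hd) hg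
    rwa [dg_inv, dg_mul, inv_mul_cancel] at this
  suffices hbR : g₁⁻¹ * g₂ ∈ base R by
    have := (hB.diag_nm hg₁).mul (hB.one_base_nm hbR)
    rwa [dg_mul, mul_one, mul_inv_cancel_left] at this
  obtain ⟨b, hbdef⟩ : ∃ b, b = g₁⁻¹ * g₂ := ⟨_, rfl⟩
  rw [← hbdef] at hb ⊢
  have hbJ : b ∈ Iso J := (dg_mem_iso.1 (hB.kle hb)).2
  obtain ⟨L, hL⟩ : ∃ L : Subgroup (GL κ E), ∀ b, b ∈ L ↔ dg 1 b ∈ K :=
    ⟨K.comap (dgHom.comp (MonoidHom.inr (GL κ E) (GL κ E))), fun b => Iff.rfl⟩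
  have hLN : ∀ c ∈ L, Nm (base R) c := fun c hc => hfst c (mem_fstB.2 ⟨1, by
    have := mul_mem (mul_mem (hB.mem_k hB.hy) ((hL c).1 hc)) (hB.mem_k hB.hy)
    rwa [sw_conj] at this⟩)
  by_cases hbs : ∀ r ∈ base R, b * r * b⁻¹ = r ∨ b * r * b⁻¹ = -r
  · obtain ⟨s, hs, c, hc⟩ := h0.mem_of_signs (g := b) fun x hx => by
      rcases hbs x hx with e' | e'
      · exact Or.inl (mul_inv_eq_iff_eq_mul.1 e')
      · exact Or.inr (by rw [mul_inv_eq_iff_eq_mul.1 e', neg_mul])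
    have hsJ := mem_iso.1 (hB.base_le hs)
    have hJ : (c * c) • J = J := by
      have := mem_iso.1 hbJ
      rwa [hc, Matrix.transpose_smul, Matrix.smul_mul, Matrix.smul_mul, Matrix.mul_smul, smul_smul, hsJ] at this
    have hcc : c * c = 1 := by
      have : (c * c - 1) • J = 0 := by rw [sub_smul, one_smul, hJ, sub_self]
      exact sub_eq_zero.1 ((smul_eq_zero.1 this).resolve_right hB.jne)
    rcases mul_self_eq_one_iff.1 hcc with rfl | rfl
    · rw [show b = s from Units.ext (by rw [hc, one_smul])]; exact hs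
    · rw [show b = -s from Units.ext (by rw [hc, neg_one_smul, Units.val_neg])]; exact h0.neg_mem hs
  exfalso
  have hconj : ∀ u ∈ base R, ∀ v ∈ base R, u * u = -1 → v * v = -1 → ∀ c ∈ L,
      tl u * tl v * c * (tl u * tl v)⁻¹ ∈ L := by
    intro u hu v hv u2 v2 c hc'
    obtain ⟨s, hs⟩ : ∃ s : GL κ E, (s : Matrix κ κ E) = (2 : E)⁻¹ • ((tl u * tl v : GL κ E) : Matrix κ κ E) :=
      ⟨sc (Units.mk0 _ (inv_ne_zero h0.two)) * (tl u * tl v), by
        rw [Units.val_mul, sc_val, Units.val_mk0, Matrix.smul_mul, Matrix.one_mul]⟩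
    have hss : s = sc (Units.mk0 _ (inv_ne_zero h0.two)) * (tl u * tl v) := Units.ext (by
      rw [hs, Units.val_mul (sc _), sc_val, Units.val_mk0, Matrix.smul_mul, Matrix.one_mul])
    have hTJ : ∀ {w : GL κ E}, w ∈ base R → w * w = -1 →
        ((tl w : GL κ E) : Matrix κ κ E)ᵀ * J * (tl w : GL κ E) = (2 : E) • J := fun {w} hw w2 => by
      have e1 := mem_iso.1 (hB.base_le hw)
      rw [h0.tl_val w2, Matrix.transpose_add, Matrix.transpose_one, Matrix.add_mul, Matrix.one_mul,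
        iso_skew (hB.base_le hw) w2, Matrix.mul_add, Matrix.add_mul, Matrix.mul_one, Matrix.add_mul]
      simp only [Matrix.mul_one, Matrix.neg_mul, Matrix.mul_assoc, h0.sq_val w2, Matrix.mul_neg, neg_neg, two_smul]
      abel
    have hsJ : s ∈ Iso J := by
      rw [mem_iso, hs, Units.val_mul, Matrix.transpose_smul, Matrix.transpose_mul, Matrix.smul_mul, Matrix.smul_mul,
        Matrix.mul_smul, smul_smul]
      rw [show ((tl v : GL κ E) : Matrix κ κ E)ᵀ * ((tl u : GL κ E) : Matrix κ κ E)ᵀ * J *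
          (((tl u : GL κ E) : Matrix κ κ E) * ((tl v : GL κ E) : Matrix κ κ E)) =
          ((tl v : GL κ E) : Matrix κ κ E)ᵀ * (((tl u : GL κ E) : Matrix κ κ E)ᵀ * J *
            ((tl u : GL κ E) : Matrix κ κ E)) * ((tl v : GL κ E) : Matrix κ κ E) by simp only [Matrix.mul_assoc],
        hTJ hu u2, Matrix.mul_smul, Matrix.smul_mul, hTJ hv v2, smul_smul, smul_smul]
      rw [show (2 : E)⁻¹ * (2 : E)⁻¹ * 2 * 2 = 1 by field_simp [h0.two], one_smul]
    have csc : ∀ (k : Eˣ) (z y : GL κ E), sc k * z * y * (sc k * z)⁻¹ = z * y * z⁻¹ := fun k z y => by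
      rw [show sc k * z * y * (sc k * z)⁻¹ = sc k * (z * y * z⁻¹) * (sc k)⁻¹ by group, sc_comm, mul_inv_cancel_right]
    have hsN : Nm (base R) s := fun r hr => by
      rw [hss, csc, show tl u * tl v * r * (tl u * tl v)⁻¹ = tl u * (tl v * r * (tl v)⁻¹) * (tl u)⁻¹ by group]
      exact h0.tl_nm hu u2 _ (h0.tl_nm hv v2 r hr)
    have h1 := hB.diag_mem hsJ hsN
    rw [hL] at hc' ⊢
    have := mul_mem (mul_mem h1 hc') (inv_mem h1)
    rwa [dg_inv, dg_mul, dg_mul, mul_one, mul_inv_cancel, hss, csc] at this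
  obtain ⟨a, d, P, a2, d2, ht⟩ := h0.exists_lift_pair hB.minus_base hn
    (fun r hr => (hL r).2 (hB.one_base_mem hr)) hLN hconj ((hL b).2 hb) hbs
  obtain ⟨w, hw, hwnc, hww, hwa, hwd⟩ := h0.exists_invol_perp hB.minus_base P a2 d2 hn
  obtain ⟨t, ht'⟩ : ∃ t, t = tl d * (tl a)⁻¹ := ⟨_, rfl⟩
  rw [← ht', hL] at ht
  have hwa' := sg_eq_one_iff.1 hwa
  have hwd' := sg_eq_one_iff.1 hwd
  have htw : t * w * t⁻¹ = w := by
    have e1 := h0.tl_fix a2 hwa'.symm
    have e2 := h0.tl_fix d2 hwd'.symm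
    rw [ht', show tl d * (tl a)⁻¹ * w * (tl d * (tl a)⁻¹)⁻¹ = tl d * ((tl a)⁻¹ * w * tl a) * (tl d)⁻¹ by group,
      show (tl a)⁻¹ * w * tl a = w by rw [mul_assoc, inv_mul_eq_iff_eq_mul, ← mul_inv_eq_iff_eq_mul.1 e1], e2]
  have hta : t * a * t⁻¹ = d * a := by
    have e1 := h0.tl_fix (x := a) a2 rfl
    rw [ht', show tl d * (tl a)⁻¹ * a * (tl d * (tl a)⁻¹)⁻¹ = tl d * ((tl a)⁻¹ * a * tl a) * (tl d)⁻¹ by group,
      show (tl a)⁻¹ * a * tl a = a by rw [mul_assoc, inv_mul_eq_iff_eq_mul, ← mul_inv_eq_iff_eq_mul.1 e1],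
      h0.tl_move d2 ((h0.sg_neg_iff P.hb P.ha).1 (by rw [sg_comm, P.anti]))]
  have hwR : dg w w ∈ R := hw
  have hW2 : dg w w * dg w w = (1 : GL (κ ⊕ κ) E) := by rw [dg_mul, hww, dg_one]
  have hWnc : NC (dg w w) := ⟨fun e' => hwnc.1 (dg_inj (a := w) (b := w) (by rwa [dg_one])).1,
    fun e' => hwnc.2 (dg_inj (a := w) (b := w) (by rwa [← neg_one_dg])).1⟩
  obtain ⟨r, hr, er⟩ := hall _ hwR hW2 hWnc (dg 1 t) ht
    (by rw [dg_mul, dg_mul, one_mul, mul_one, mul_inv_eq_iff_eq_mul.1 htw]) (dg a a) P.ha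
    (by rw [dg_mul, dg_mul, hwa'])
  rw [dg_inv, dg_mul, dg_mul, inv_one, mul_one, one_mul, hta] at er
  rcases hB.split hr with e' | e'
  · obtain ⟨r₀, hr₀, hr'⟩ := hB.cases hr e'
    have hfin : ∀ ε : E, ε * ε = 1 → (1 + (w : Matrix κ κ E)) * ((d * a : GL κ E) : Matrix κ κ E) =
        ε • ((1 + (w : Matrix κ κ E)) * (a : Matrix κ κ E)) → False := by
      intro ε hε e1
      rw [Units.val_mul, ← Matrix.mul_assoc, ← Matrix.smul_mul] at e1
      have e2 : (1 + (w : Matrix κ κ E)) * (d : Matrix κ κ E) = ε • (1 + (w : Matrix κ κ E)) := by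
        have := congrArg (fun z => z * ((a⁻¹ : GL κ E) : Matrix κ κ E)) e1
        simpa [Matrix.mul_assoc] using this
      have e3 : (1 + (w : Matrix κ κ E)) * ((d : Matrix κ κ E) * d) = (1 + (w : Matrix κ κ E)) := by
        rw [← Matrix.mul_assoc, e2, Matrix.smul_mul, e2, smul_smul, hε, one_smul]
      rw [h0.sq_val d2, Matrix.mul_neg, Matrix.mul_one] at e3
      have e4 : (1 : Matrix κ κ E) + (w : Matrix κ κ E) = 0 :=
        (smul_eq_zero.1 (show (2 : E) • (1 + (w : Matrix κ κ E)) = 0 by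
          rw [two_smul]; nth_rw 1 [← e3]; exact neg_add_cancel _)).resolve_left h0.two
      exact hwnc.2 (Units.ext (by rw [Units.val_neg, Units.val_one]; exact eq_neg_of_add_eq_zero_right e4))
    rcases hr' with rfl | rfl <;>
      simp only [dg_val, ← Matrix.fromBlocks_one, Matrix.fromBlocks_add, Matrix.fromBlocks_multiply,
        Matrix.fromBlocks_inj, Matrix.mul_zero, Matrix.zero_mul, add_zero, zero_add, Units.val_neg] at er
    · exact hfin 1 (one_mul 1) (by rw [one_smul, er.2.2.2, er.1])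
    · exact hfin (-1) (by norm_num) (by rw [neg_one_smul, er.2.2.2, er.1, Matrix.mul_neg])
  · obtain ⟨r₀, hr₀, hr'⟩ := hB.cases (mul_mem hB.hy hr) e'
    have e1 : r = sw * (sw * r) := by rw [← mul_assoc, sw_sq, one_mul]
    rcases hr' with h1 | h1 <;> rw [e1, h1] at er <;>
      simp [dg_val, sw, ← Matrix.fromBlocks_one, Matrix.fromBlocks_add, Matrix.fromBlocks_multiply,
        Matrix.fromBlocks_inj] at er <;>
      refine hwnc.2 (Units.ext ?_) <;>
      rw [Units.val_neg, Units.val_one] <;>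
      exact eq_neg_of_add_eq_zero_right er.1

end Blk

end Cfsg.Agent.ClassicalMax.SympMinus
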