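import Cfsg.Agent.ClassicalMax.SympMinus.Step
import Cfsg.Agent.ClassicalMax.SympType.Step
import Cfsg.Agent.ClassicalMax.Sp4.ExtraSpecial

/-!
Normalisers of extraspecial groups of minus type are maximal in symplectic groups over prime fields.
-/

set_option autoImplicit false
set_option linter.unusedSectionVars false
set_option linter.style.haveILetI false

namespace Cfsg.Agent.ClassicalMax.SympMinus

open Matrix SympType Module Cfsg.Agent.Classical

variable {F : Type*} [Field F] [Fintype F]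

section Translate

variable {ι : Type} [Fintype ι] [DecidableEq ι]

local notation "G" => GL ι F
local notation "M" => Matrix ι ι F

theorem card_classes {R : Subgroup G} [Nonempty ι] (h2 : (2 : F) ≠ 0) (hR : IsPGroup 2 R)
    (hirr : ∀ N : M, (∀ x ∈ R, N * (x : M) = x * N) → ∃ c : F, N = c • 1)
    (hcomm : ∀ x ∈ R, ∀ y ∈ R, x * y = y * x ∨ x * y = -(y * x))
    (hpm : ∀ z : R, z ∈ Subgroup.center R → (z : G) = 1 ∨ (z : G) = -1) :
    Fintype.card ι * Fintype.card ι = Nat.card (R ⧸ Subgroup.center R) := by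
  classical
  haveI : Finite R := inferInstance
  haveI : Fintype R := Fintype.ofFinite _
  haveI : Fintype (R ⧸ Subgroup.center R) := Fintype.ofFinite _
  obtain ⟨N, hN⟩ : ∃ N : F, N = (Fintype.card R : F) := ⟨_, rfl⟩
  have hN0 : N ≠ 0 := by
    haveI : Fact (Nat.Prime 2) := ⟨Nat.prime_two⟩
    obtain ⟨l, hl⟩ := IsPGroup.iff_card.1 hR
    rw [hN, ← Nat.card_eq_fintype_card, hl, Nat.cast_pow]
    exact pow_ne_zero _ (by exact_mod_cast h2)
  have hav : ∀ A : M, ∃ c : F, ∑ r : R, ((r : G) : M) * A * (((r : G)⁻¹ : G) : M) = c • 1 := fun A => by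
    refine hirr _ fun x hx => ?_
    rw [Finset.sum_mul, Finset.mul_sum]
    symm
    refine Fintype.sum_equiv (Equiv.mulLeft (⟨x, hx⟩ : R)) _ _ fun r => ?_
    simp [Matrix.mul_assoc]
  have htr : ∀ (A : M) (r : R), (((r : G) : M) * A * (((r : G)⁻¹ : G) : M)).trace = A.trace := fun A r => by
    rw [Matrix.trace_mul_cycle, ← Units.val_mul, inv_mul_cancel, Units.val_one, Matrix.one_mul]
  have hval : ∀ A : M, ∀ c : F, ∑ r : R, ((r : G) : M) * A * (((r : G)⁻¹ : G) : M) = c • 1 →
      N * A.trace = c * (Fintype.card ι : F) := fun A c e => by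
    have := congrArg Matrix.trace e
    rw [Matrix.trace_sum, Matrix.trace_smul, Matrix.trace_one, smul_eq_mul] at this
    simp only [htr, Finset.sum_const, Finset.card_univ, nsmul_eq_mul, ← hN] at this
    exact this
  have hn : (Fintype.card ι : F) ≠ 0 := by
    obtain ⟨i⟩ := (inferInstance : Nonempty ι)
    obtain ⟨c, hc⟩ := hav (Matrix.single i i 1)
    intro e
    have := hval _ c hc
    rw [e, mul_zero, Matrix.trace_single_eq_same, mul_one] at this
    exact hN0 this
  have htrace : ∀ t : R, t ∉ Subgroup.center R → ((t : G) : M).trace = 0 := fun t ht => by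
    obtain ⟨s, hs⟩ : ∃ s : R, s * t ≠ t * s := by
      by_contra hc
      push Not at hc
      exact ht (Subgroup.mem_center_iff.2 hc)
    have e : (t : G) = -((s : G) * t * (s : G)⁻¹) := by
      rw [(hcomm _ s.2 _ t.2).resolve_left fun e => hs (Subtype.ext e), neg_mul, mul_inv_cancel_right, neg_neg]
    have e' := congrArg (fun g : G => (g : M).trace) e
    simp only [Units.val_neg, Matrix.trace_neg, Units.val_mul, htr] at e'
    exact (mul_eq_zero.1 (show (2 : F) * ((t : G) : M).trace = 0 by linear_combination e')).resolve_left h2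
  obtain ⟨L, hL⟩ : ∃ L : M →ₗ[F] (R ⧸ Subgroup.center R) → F,
      ∀ A q, L A q = ((((q.out : R) : G)⁻¹ : G) * A : M).trace :=
    ⟨{ toFun := fun A q => ((((q.out : R) : G)⁻¹ : G) * A : M).trace
       map_add' := fun A B => funext fun q => by simp [Matrix.mul_add]
       map_smul' := fun c A => funext fun q => by simp }, fun A q => rfl⟩
  have hinj : Function.Injective L := by
    rw [← LinearMap.ker_eq_bot, LinearMap.ker_eq_bot']
    intro A hA
    have h0 : ∀ r : R, ((((r : G))⁻¹ : G) * A : M).trace = 0 := fun r => by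
      obtain ⟨z, hz⟩ := QuotientGroup.mk_out_eq_mul (Subgroup.center R) r
      have e := congrFun hA (QuotientGroup.mk r)
      rw [hL, Pi.zero_apply, hz] at e
      rcases hpm z z.2 with e' | e' <;> simp [e', -Matrix.coe_units_inv] at e <;> exact e
    ext b i
    have key : ∀ d j : ι, ∑ r : R, ((r : G) : M) b i * (((r : G)⁻¹ : G) : M) j d =
        if b = d ∧ i = j then N / (Fintype.card ι : F) else 0 := fun d j => by
      obtain ⟨c, hc⟩ := hav (Matrix.single i j 1)
      have hv := hval _ c hc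
      have := congrFun (congrFun hc b) d
      rw [Matrix.sum_apply, Matrix.smul_apply, Matrix.one_apply, smul_eq_mul] at this
      have e : ∀ r : R, (((r : G) : M) * Matrix.single i j (1 : F) * (((r : G)⁻¹ : G) : M) : M) b d =
          ((r : G) : M) b i * (((r : G)⁻¹ : G) : M) j d := fun r => by
        rw [Matrix.mul_apply, Finset.sum_eq_single j]
        · simp
        · intro x _ hx; simp [hx]
        · simp
      simp only [e] at this
      rw [this]
      by_cases hij : i = j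
      · subst hij
        rw [Matrix.trace_single_eq_same, mul_one] at hv
        split_ifs with hbd <;> simp_all [eq_div_iff]
      · rw [Matrix.trace_single_eq_of_ne _ _ _ hij, mul_zero, eq_comm, mul_eq_zero] at hv
        rw [hv.resolve_right hn]
        simp [hij]
    have h1 : (0 : F) = ∑ r : R, ((r : G) : M) b i * ((((r : G))⁻¹ : G) * A : M).trace := by simp [h0, -Matrix.coe_units_inv]
    simp only [Matrix.trace, Matrix.diag, Matrix.mul_apply, Finset.mul_sum, ← mul_assoc] at h1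
    rw [Finset.sum_comm] at h1
    simp only [Finset.sum_comm (s := (Finset.univ : Finset R)), ← Finset.sum_mul, key, ite_and, ite_mul, zero_mul] at h1
    simp only [Finset.sum_ite_eq, Finset.mem_univ, if_true] at h1
    exact (mul_eq_zero.1 h1.symm).resolve_left (div_ne_zero hN0 hn)
  have hsurj : Function.Surjective L := by
    intro f
    refine ⟨∑ q, ((Fintype.card ι : F)⁻¹ * f q) • ((q.out : R) : G).val, funext fun p => ?_⟩
    rw [map_sum, Finset.sum_apply, Finset.sum_eq_single p]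
    · rw [map_smul, Pi.smul_apply, hL, ← Units.val_mul, inv_mul_cancel, Units.val_one, Matrix.trace_one, smul_eq_mul]
      field_simp
    · intro q _ hqp
      rw [map_smul, Pi.smul_apply, hL, ← Units.val_mul]
      have : ((p.out)⁻¹ * q.out : R) ∉ Subgroup.center R := fun hm => hqp (by
        rw [← q.out_eq', ← p.out_eq', eq_comm, QuotientGroup.eq]; exact hm)
      rw [show ((((p.out : R) : G))⁻¹ * ((q.out : R) : G)) = (((p.out)⁻¹ * q.out : R) : G) from rfl, htrace _ this,
        smul_zero]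
    · simp
  have := (LinearEquiv.ofBijective L ⟨hinj, hsurj⟩).finrank_eq
  simp only [Module.finrank_matrix, Module.finrank_fintype_fun_eq_card, Module.finrank_self, mul_one] at this
  rw [Nat.card_eq_fintype_card]
  exact this.trans (Fintype.card_congr (Equiv.refl _))

/-- An irreducible group of symplectic type with centre of order two, in matrix form. -/
theorem sr_of_card [Nonempty ι] {R : Subgroup G} (h2 : (2 : F) ≠ 0) (hS : Cfsg.Geo.IsSymplecticTypeGroup 2 R)
    (hirr : Cfsg.Geo.ActsAbsolutelyIrreducibly (Cfsg.Geo.matrixSet R)) (hz : Nat.card (Subgroup.center R) = 2) {k : ℕ}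
    (hcard : Nat.card R = 2 ^ (1 + 2 * k)) :
    SR R ∧ Fintype.card ι = 2 ^ k := by
  classical
  haveI : Finite R := inferInstance
  have h4 : ∀ x : R, x ^ 4 = 1 := fun x =>
    (show Monoid.exponent R = 4 by rw [hS.exponent_eq]; norm_num) ▸ Monoid.pow_exponent_eq_one x
  obtain ⟨hsq, hcm⟩ := Symp4.central_sq_comm hS.pGroup hS.cyclic_of_characteristic h4
  have hpm : ∀ z : R, z ∈ Subgroup.center R → (z : G) = 1 ∨ (z : G) = -1 := fun z hzc => by
    obtain ⟨c, hc⟩ := Symp4.center_scalar hirr hzc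
    have hp := pow_card_eq_one' (x := (⟨z, hzc⟩ : Subgroup.center R))
    rw [hz, pow_two] at hp
    obtain ⟨d, hd⟩ := exists_sc_of_smul hc
    have e := congrArg (fun w : Subgroup.center R => ((w : R) : G)) hp
    simp only [Subgroup.coe_mul, Subgroup.coe_one, hd, sc_mul] at e
    rcases sc_sq_one e with rfl | rfl
    · exact Or.inl (by rw [hd, sc_one])
    · exact Or.inr (by rw [hd, sc_neg_one])
  have hirr' : ∀ N : M, (∀ x ∈ R, N * (x : M) = x * N) → ∃ c : F, N = c • 1 := fun N hN =>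
    hirr.2 N (by rintro _ ⟨g, hg, rfl⟩; exact hN g hg)
  have hneg : (-1 : G) ∈ R := by
    haveI : Fact (Nat.Prime 2) := ⟨Nat.prime_two⟩
    obtain ⟨z, hzo⟩ : ∃ z : Subgroup.center R, orderOf z = 2 := exists_prime_orderOf_dvd_card' 2 (by rw [hz])
    rcases hpm z z.2 with e | e
    · rw [orderOf_eq_one_iff.2 (Subtype.ext (Subtype.ext e))] at hzo
      omega
    · exact e ▸ (z : R).2
  have hcomm : ∀ x ∈ R, ∀ y ∈ R, x * y = y * x ∨ x * y = -(y * x) := fun x hx y hy => by
    rcases hpm _ (hcm ⟨x, hx⟩ ⟨y, hy⟩) with e | e <;> simp only [Subgroup.coe_mul, Subgroup.coe_inv] at e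
    · exact Or.inl (by rwa [mul_inv_eq_one, mul_inv_eq_iff_eq_mul] at e)
    · rw [mul_inv_eq_iff_eq_mul, mul_inv_eq_iff_eq_mul, neg_one_mul, neg_mul] at e
      exact Or.inr e
  have hc := card_classes h2 hS.pGroup hirr' hcomm hpm
  have hq := Subgroup.card_eq_card_quotient_mul_card_subgroup (Subgroup.center R)
  rw [hz, ← hc, hcard] at hq
  have hn : Fintype.card ι = 2 ^ k := by
    rw [pow_add, pow_mul, pow_one, mul_comm] at hq
    have : (2 ^ k) ^ 2 = Fintype.card ι ^ 2 := by
      rw [← pow_mul, mul_comm k 2, pow_mul, pow_two (Fintype.card ι)]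
      exact mul_right_cancel₀ two_ne_zero hq
    exact (Nat.pow_left_injective two_ne_zero this).symm
  refine ⟨⟨h2, hneg, hcomm, fun x hx => ?_, fun x hx hall => ?_, hirr', ?_⟩, hn⟩
  · have := hpm _ (hsq ⟨x, hx⟩)
    exact this
  · exact hpm ⟨x, hx⟩ (Subgroup.mem_center_iff.2 fun g => Subtype.ext (hall g g.2).symm)
  · rw [hcard, hn]; ring

/-- The setting of this library from the hypotheses of the classification. -/
theorem sr_of_group [Nonempty ι] {R : Subgroup G} (h2 : (2 : F) ≠ 0) (hS : Cfsg.Geo.IsSymplecticTypeGroup 2 R)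
    (hirr : Cfsg.Geo.ActsAbsolutelyIrreducibly (Cfsg.Geo.matrixSet R)) (hz : Nat.card (Subgroup.center R) = 2) {k : ℕ}
    (hcard : Nat.card R = 2 ^ (1 + 2 * k)) (hm : Cfsg.Geo.IsOfMinusType k R) :
    SR R ∧ Minus R ∧ Fintype.card ι = 2 ^ k := by
  classical
  obtain ⟨hR, hn⟩ := sr_of_card h2 hS hirr hz hcard
  refine ⟨hR, fun A hA hAc hA2 => ?_, hn⟩
  have := hm (A.subgroupOf R) ⟨⟨fun a b => Subtype.ext (Subtype.ext (hAc _ a.2 _ b.2))⟩⟩
    (fun x hx => Subtype.ext (hA2 _ hx))
  rw [Nat.card_congr (Subgroup.subgroupOfEquivOfLe hA).toEquiv] at this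
  rw [hn, ← pow_succ']
  exact this

end Translate

/-- Four dimensions. -/
theorem dich_two (hodd : Odd (Fintype.card F)) (hp : (Fintype.card F).Prime) : Dich (Matrix.J (Fin 2) F) := by
  classical
  intro R hR hM hRJ K hKJ hK
  haveI : Finite R := inferInstance
  have hz : Nat.card (Subgroup.center R) = 2 := by
    have hm1 : (⟨-1, hR.neg⟩ : R) ∈ Subgroup.center R :=
      Subgroup.mem_center_iff.2 fun g => Subtype.ext (by simp)
    rw [Nat.card_eq_two_iff]
    refine ⟨1, ⟨_, hm1⟩, fun e => hR.one_ne_neg_one (congrArg Subtype.val (congrArg Subtype.val e)),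
      Set.eq_univ_iff_forall.2 fun z => ?_⟩
    rcases hR.pm ((z : R) : GL _ F) (z : R).2 (fun y hy =>
      (congrArg Subtype.val (Subgroup.mem_center_iff.1 z.2 ⟨y, hy⟩)).symm) with e | e
    · exact Or.inl (Subtype.ext (Subtype.ext e))
    · exact Or.inr (Subtype.ext (Subtype.ext e))
  have h : Symp4.Setting R :=
    ⟨by simp, hR.two, hR.irr, hR.comm, hR.sq, hR.neg, by rw [hR.card, hz]; simp, Or.inl hz⟩
  have hRm : Cfsg.Geo.IsOfMinusType 2 R := fun A hA h2A => by
    have := hM (A.map R.subtype) (Subgroup.map_subtype_le A) (by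
      rintro _ ⟨a, ha, rfl⟩ _ ⟨b, hb, rfl⟩
      exact congrArg Subtype.val (congrArg Subtype.val (hA.is_comm.comm ⟨a, ha⟩ ⟨b, hb⟩))) (by
      rintro _ ⟨a, ha, rfl⟩
      exact congrArg Subtype.val (h2A a ha))
    rw [← Nat.card_congr (A.equivMapOfInjective R.subtype R.subtype_injective).toEquiv] at this
    simpa using this
  have hmax := Sp4.Five.maximal_of_setting hodd hp h (fun g hg => mem_iso_spGL.1 (hRJ hg)) hz hRm
  haveI : Finite (R : Set (GL (Fin 2 ⊕ Fin 2) F)) := Subtype.finite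
  rcases hmax.2 K (fun g hg => hK g (mem_iso_spGL.2 hg.2) fun r hr => (Subgroup.mem_normalizer_iff.1 hg.1 r).1 hr)
    (fun g hg => mem_iso_spGL.1 (hKJ hg)) with e | e
  · exact Or.inl fun g hg r hr => (Subgroup.mem_normalizer_iff.1 (show g ∈ _ from (e ▸ hg : g ∈
      Cfsg.Geo.subgroupNormalizer R ⊓ Cfsg.spGL 2 F).1) r).1 hr
  · exact Or.inr fun g hg => e ▸ mem_iso_spGL.1 hg

theorem dich_pow (hodd : Odd (Fintype.card F)) (hp : (Fintype.card F).Prime) :
    ∀ j : ℕ, Dich (Matrix.J (Fin (2 ^ (j + 1))) F) := by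
  intro j
  induction j with
  | zero => exact dich_two hodd hp
  | succ j ih =>
    exact dich_step (m := 2 ^ (j + 1)) (by rw [pow_succ]; linarith [Nat.one_le_two_pow (n := j)])
      (by rw [pow_succ']) (Sp4.Five.two_ne hodd) ih

/-- The normaliser is maximal. -/
theorem maximal {m p k : ℕ} (hm : 4 ≤ m) (hp : p.Prime) (hpo : Odd p) (hF : Fintype.card F = p)
    (R : Subgroup (GL (Fin m ⊕ Fin m) F)) (hS : Cfsg.Geo.IsSymplecticTypeGroup 2 R)
    (hirr : Cfsg.Geo.ActsAbsolutelyIrreducibly (Cfsg.Geo.matrixSet R)) (hRD : R ≤ Cfsg.spGL m F)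
    (hcard : Nat.card R = 2 ^ (1 + 2 * k)) (hz : Nat.card (Subgroup.center R) = 2)
    (hminus : Cfsg.Geo.IsOfMinusType k R) :
    Cfsg.Geo.IsMaximalIn (Cfsg.spGL m F) (Cfsg.Geo.subgroupNormalizer R ⊓ Cfsg.spGL m F) := by
  classical
  have hodd : Odd (Fintype.card F) := hF ▸ hpo
  have h2 := Sp4.Five.two_ne hodd
  haveI : Nonempty (Fin m) := ⟨⟨0, by omega⟩⟩
  obtain ⟨hR, hM, hn⟩ := sr_of_group h2 hS hirr hz hcard hminus
  rw [Fintype.card_sum, Fintype.card_fin] at hn
  obtain ⟨j, rfl⟩ : ∃ j, k = j + 2 := ⟨k - 2, by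
    rcases k with _ | _ | k <;> simp at hn ⊢ <;> omega⟩
  obtain rfl : m = 2 ^ (j + 1) := by rw [pow_succ' 2 (j + 1)] at hn; omega
  have hT := dich_pow hodd (hF ▸ hp) j
  have hRJ : R ≤ Iso (Matrix.J (Fin (2 ^ (j + 1))) F) := fun g hg => mem_iso_spGL.2 (hRD hg)
  haveI : Finite (R : Set (GL (Fin (2 ^ (j + 1)) ⊕ Fin (2 ^ (j + 1))) F)) := Subtype.finite
  have hmem : ∀ g, g ∈ Cfsg.Geo.subgroupNormalizer R ↔ Nm R g := fun g =>
    ⟨fun hg r hr => (Subgroup.mem_normalizer_iff.1 hg r).1 hr, fun hg => Subgroup.mem_normalizer_fintype hg⟩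
  refine ⟨lt_of_le_of_ne inf_le_right fun e => ?_, fun K hK hKs => ?_⟩
  · -- the group is not normal
    have hall : ∀ g ∈ Iso (Matrix.J (Fin (2 ^ (j + 1))) F), ∀ r ∈ R, g * r * g⁻¹ ∈ R := fun g hg =>
      (hmem g).1 (e.ge (mem_iso_spGL.1 hg)).1
    obtain ⟨r, hr, -, -, -, r1, -⟩ := hR.exists_both (by simp; omega)
    have hsim := simple_symp (F := F) (m := 2 ^ (j + 1)) (by omega) h2 R hRJ hall ⟨r, hr, r1⟩
    have hA := sympB_isAlt (F := F) (m := 2 ^ (j + 1))
    obtain ⟨v, hv⟩ := exists_ne (0 : Fin (2 ^ (j + 1)) ⊕ Fin (2 ^ (j + 1)) → F)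
    obtain ⟨w, -, hvw⟩ := Alt.exists_partner hA (Alt.ndon_top sympB_nondeg) (u := v) trivial hv
    obtain ⟨t, ht⟩ : ∃ t, t = (glEquiv _ F).symm (Alt.tv hA v 1) := ⟨_, rfl⟩
    have htR : t ∈ R := hsim (mem_iso_spGL.2 ((glEquiv_mem_iso_iff t).1 (by
      rw [ht, MulEquiv.apply_symm_apply]; exact Alt.tv_mem_isoGroup hA v 1)))
    have h4 : t * t * (t * t) = 1 := by
      rcases hR.sq t htR with e' | e' <;> rw [e'] <;> simp
    rw [ht, ← map_mul, ← map_mul, Alt.tv_add, Alt.tv_add, MulEquiv.map_eq_one_iff] at h4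
    have h5 := LinearEquiv.congr_fun h4 w
    rw [Alt.tv_apply, Alt.neg' hA v w, hvw] at h5
    have h6 : ((1 + 1 + (1 + 1) : F) * -1) • v = 0 := by
      simpa using sub_eq_zero.2 h5
    rcases smul_eq_zero.1 h6 with e' | e'
    · exact h2 (mul_self_eq_zero.1 (by linear_combination -e'))
    · exact hv e'
  · rcases hT R hR hM hRJ K (fun g hg => mem_iso_spGL.2 (hKs hg))
      (fun g hg hn => hK ⟨(hmem g).2 hn, mem_iso_spGL.1 hg⟩) with e | e
    · exact Or.inl (le_antisymm (fun g hg => ⟨(hmem g).2 (e g hg), hKs hg⟩) hK)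
    · exact Or.inr (le_antisymm hKs fun g hg => e (mem_iso_spGL.2 hg))

end Cfsg.Agent.ClassicalMax.SympMinus
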