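import Cfsg.Agent.ClassicalMax.SympMinus.Blocks
import Cfsg.Agent.ClassicalMax.SympType.Finish

/-!
If the centralisers of the involutions normalise, so does the centraliser of an element of square minus one: modulo
the scalars of the field it spans all transvections lift.
-/

set_option autoImplicit false
set_option linter.unusedSectionVars false

namespace Cfsg.Agent.ClassicalMax.SympMinus

open Matrix SympType

variable {ι : Type*} [Fintype ι] [DecidableEq ι] {E : Type*} [Field E] [Finite E]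

theorem nm_inv {R : Subgroup (GL ι E)} {g : GL ι E} (hg : Nm R g) : Nm R g⁻¹ := by
  haveI : Finite (R : Set (GL ι E)) := Subtype.finite
  have hm : g ∈ Subgroup.normalizer (R : Set (GL ι E)) := Subgroup.mem_normalizer_fintype fun r hr => hg r hr
  exact fun r hr => (Subgroup.mem_normalizer_iff.1 (inv_mem hm) r).1 hr

theorem sc_conj' (k : Eˣ) (z y : GL ι E) : sc k * z * y * (sc k * z)⁻¹ = z * y * z⁻¹ := by
  rw [show sc k * z * y * (sc k * z)⁻¹ = sc k * (z * y * z⁻¹) * (sc k)⁻¹ by group, sc_comm, mul_inv_cancel_right]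

namespace SR

variable {R : Subgroup (GL ι E)} (h : SR R)
include h

/-- one half as a unit -/
noncomputable def half : Eˣ := Units.mk0 (2 : E)⁻¹ (inv_ne_zero h.two)

theorem half_val : (h.half : E) = (2 : E)⁻¹ := rfl

theorem tl_mult {J : Matrix ι ι E} {w : GL ι E} (hw : w ∈ Iso J) (w2 : w * w = -1) :
    ((tl w : GL ι E) : Matrix ι ι E)ᵀ * J * (tl w : GL ι E) = (2 : E) • J := by
  rw [h.tl_val w2, Matrix.transpose_add, Matrix.transpose_one, Matrix.add_mul, Matrix.one_mul, iso_skew hw w2,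
    Matrix.mul_add, Matrix.add_mul, Matrix.mul_one, Matrix.add_mul]
  simp only [Matrix.mul_one, Matrix.neg_mul, Matrix.mul_assoc, h.sq_val w2, Matrix.mul_neg, neg_neg, two_smul]
  abel

theorem lift_pair_iso {J : Matrix ι ι E} {u v : GL ι E} (hu : u ∈ Iso J) (hv : v ∈ Iso J) (u2 : u * u = -1)
    (v2 : v * v = -1) : sc h.half * (tl u * tl v) ∈ Iso J := by
  rw [mem_iso, Units.val_mul (sc _), sc_val, h.half_val, Matrix.smul_mul, Matrix.one_mul, Units.val_mul,
    Matrix.transpose_smul, Matrix.transpose_mul, Matrix.smul_mul, Matrix.smul_mul, Matrix.mul_smul, smul_smul]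
  rw [show ((tl v : GL ι E) : Matrix ι ι E)ᵀ * ((tl u : GL ι E) : Matrix ι ι E)ᵀ * J *
      (((tl u : GL ι E) : Matrix ι ι E) * ((tl v : GL ι E) : Matrix ι ι E)) =
      ((tl v : GL ι E) : Matrix ι ι E)ᵀ * (((tl u : GL ι E) : Matrix ι ι E)ᵀ * J *
        ((tl u : GL ι E) : Matrix ι ι E)) * ((tl v : GL ι E) : Matrix ι ι E) by simp only [Matrix.mul_assoc],
    h.tl_mult hu u2, Matrix.mul_smul, Matrix.smul_mul, h.tl_mult hv v2, smul_smul, smul_smul]
  rw [show (2 : E)⁻¹ * (2 : E)⁻¹ * 2 * 2 = 1 by field_simp [h.two], one_smul]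

theorem lift_pair_nm {u v : GL ι E} (hu : u ∈ R) (hv : v ∈ R) (u2 : u * u = -1) (v2 : v * v = -1) :
    Nm R (sc h.half * (tl u * tl v)) := fun r hr => by
  rw [sc_conj', show tl u * tl v * r * (tl u * tl v)⁻¹ = tl u * (tl v * r * (tl v)⁻¹) * (tl u)⁻¹ by group]
  exact h.tl_nm hu u2 _ (h.tl_nm hv v2 r hr)

/-- Fixing an involution up to sign is enough. -/
theorem nm_of_pm {K : Subgroup (GL ι E)} (hRK : R ≤ K)
    (hS : ∀ x ∈ R, x * x = 1 → NC x → ∀ g ∈ K, g * x = x * g → Nm R g) {x g : GL ι E} (hx : x ∈ R)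
    (x2 : x * x = 1) (hx1 : NC x) (hg : g ∈ K) (e : g * x * g⁻¹ = x ∨ g * x * g⁻¹ = -x) : Nm R g := by
  rcases e with e | e
  · exact hS x hx x2 hx1 g hg (mul_inv_eq_iff_eq_mul.1 e)
  obtain ⟨y, hy, hxy⟩ := h.exists_anti hx hx1
  have hy' : y * x * y⁻¹ = -x := by
    rw [mul_inv_eq_iff_eq_mul, neg_mul, (h.sg_neg_iff hx hy).1 hxy, neg_neg]
  have h1 := hS x hx x2 hx1 (g * y) (mul_mem hg (hRK hy)) (mul_inv_eq_iff_eq_mul.1 (by
    rw [show g * y * x * (g * y)⁻¹ = g * (y * x * y⁻¹) * g⁻¹ by group, hy', mul_neg, neg_mul, e, neg_neg]))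
  simpa using h1.mul (nm_of_mem (inv_mem hy))

set_option maxHeartbeats 800000 in
/-- The centraliser of an element of square minus one normalises. -/
theorem cent_four {J : Matrix ι ι E} (hJ : J ≠ 0) {K : Subgroup (GL ι E)} (hRJ : R ≤ Iso J) (hKJ : K ≤ Iso J)
    (hK : ∀ g ∈ Iso J, Nm R g → g ∈ K) (hn : 8 ≤ Fintype.card ι)
    (hS : ∀ x ∈ R, x * x = 1 → NC x → ∀ g ∈ K, g * x = x * g → Nm R g) {a : GL ι E} (ha : a ∈ R)
    (a2 : a * a = -1) {g₀ : GL ι E} (hg₀ : g₀ ∈ K) (hg₀a : g₀ * a = a * g₀) : Nm R g₀ := by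
  classical
  have hRK : R ≤ K := fun r hr => hK r (hRJ hr) (nm_of_mem hr)
  obtain ⟨y, hy, hay⟩ := h.exists_anti ha (h.nc_of_neg a2)
  obtain ⟨C, hC⟩ : ∃ C : Subgroup (GL ι E), ∀ r, r ∈ C ↔ r ∈ R ∧ r * a = a * r :=
    ⟨R ⊓ Subgroup.centralizer {a}, fun r => by rw [Subgroup.mem_inf, Subgroup.mem_centralizer_singleton_iff]⟩
  have hCR : C ≤ R := fun r hr => ((hC r).1 hr).1
  have haC : a ∈ C := (hC a).2 ⟨ha, rfl⟩
  have hind : ∀ α β : E, α • (1 : Matrix ι ι E) + β • (a : Matrix ι ι E) = 0 → α = 0 ∧ β = 0 := by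
    intro α β e
    have hay' : (a : Matrix ι ι E) * y = -((y : Matrix ι ι E) * a) := congrArg Units.val ((h.sg_neg_iff ha hy).1 hay)
    have e1 : α • (y : Matrix ι ι E) + β • ((y : Matrix ι ι E) * a) = 0 := by
      have := congrArg ((y : Matrix ι ι E) * ·) e
      simpa [Matrix.mul_add, Matrix.mul_smul] using this
    have e2 : α • (y : Matrix ι ι E) - β • ((y : Matrix ι ι E) * a) = 0 := by
      have := congrArg (· * (y : Matrix ι ι E)) e
      simp only [Matrix.add_mul, Matrix.smul_mul, Matrix.one_mul, hay', Matrix.zero_mul, smul_neg] at this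
      rwa [sub_eq_add_neg]
    haveI := h.nonempty
    have e3 : ((2 : E) * α) • (y : Matrix ι ι E) = 0 := by
      have := congrArg₂ (· + ·) e1 e2
      simp only [add_zero] at this
      rw [← this, two_mul, add_smul]; abel
    have hα : α = 0 :=
      (mul_eq_zero.1 ((smul_eq_zero.1 e3).resolve_right y.ne_zero)).resolve_left h.two
    refine ⟨hα, ?_⟩
    rw [hα, zero_smul, zero_add] at e
    exact (smul_eq_zero.1 e).resolve_right a.ne_zero
  -- whatever commutes with the centraliser is in the span of one and a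
  have hspan : ∀ W : Matrix ι ι E, (∀ c ∈ C, W * (c : Matrix ι ι E) = c * W) →
      ∃ α β : E, W = α • 1 + β • (a : Matrix ι ι E) := by
    intro W hW
    have ha' : (a : Matrix ι ι E) * y = -((y : Matrix ι ι E) * a) := congrArg Units.val ((h.sg_neg_iff ha hy).1 hay)
    obtain ⟨W', hW'⟩ : ∃ W', W' = (y : Matrix ι ι E) * W * ((y⁻¹ : GL ι E) : Matrix ι ι E) := ⟨_, rfl⟩
    have hW'y : (y : Matrix ι ι E) * W' * ((y⁻¹ : GL ι E) : Matrix ι ι E) = W := by
      rw [hW', show (y : Matrix ι ι E) * ((y : Matrix ι ι E) * W * ((y⁻¹ : GL ι E) : Matrix ι ι E)) *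
        ((y⁻¹ : GL ι E) : Matrix ι ι E) = ((y * y : GL ι E) : Matrix ι ι E) * W * (((y * y)⁻¹ : GL ι E) : Matrix ι ι E) by
          rw [_root_.mul_inv_rev, Units.val_mul, Units.val_mul]; simp only [Matrix.mul_assoc]]
      rcases h.sq y hy with e | e <;> rw [e] <;> simp
    have hyc : ∀ c ∈ C, y⁻¹ * c * y = c ∨ y⁻¹ * c * y = -c := fun c hc => by
      rcases h.comm c (hCR hc) y hy with e | e
      · exact Or.inl (by rw [mul_assoc, e, inv_mul_cancel_left])
      · exact Or.inr (by rw [mul_assoc, e, mul_neg, inv_mul_cancel_left])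
    have hW'C : ∀ c ∈ C, W' * (c : Matrix ι ι E) = c * W' := by
      intro c hc
      have key : ((y⁻¹ * c * y : GL ι E) : Matrix ι ι E) * W = W * ((y⁻¹ * c * y : GL ι E) : Matrix ι ι E) := by
        rcases hyc c hc with e | e <;> rw [e] <;> simp [hW c hc]
      have k1 := congrArg (fun Z => (y : Matrix ι ι E) * Z * ((y⁻¹ : GL ι E) : Matrix ι ι E)) key
      simp only [Units.val_mul, Matrix.mul_assoc, Units.mul_inv_cancel_left, Units.mul_inv, Matrix.mul_one] at k1
      rw [hW']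
      simpa [Matrix.mul_assoc] using k1.symm
    have hall : ∀ S : Matrix ι ι E, (∀ c ∈ C, S * (c : Matrix ι ι E) = c * S) →
        (y : Matrix ι ι E) * S * ((y⁻¹ : GL ι E) : Matrix ι ι E) = S → ∃ c : E, S = c • 1 := by
      intro S hSC hSy
      have hSy' : S * (y : Matrix ι ι E) = (y : Matrix ι ι E) * S := by
        conv_lhs => rw [← hSy]
        simp [Matrix.mul_assoc]
      refine h.irr S fun r hr => ?_
      rcases h.comm r hr a ha with e | e
      · exact hSC r ((hC r).2 ⟨hr, e⟩)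
      · have hyr : y * r ∈ C := (hC _).2 ⟨mul_mem hy hr, by
          rw [mul_assoc, e, mul_neg, ← mul_assoc a y r, (h.sg_neg_iff ha hy).1 hay, neg_mul, mul_assoc]⟩
        have h1 := hSC _ hyr
        rw [Units.val_mul, ← Matrix.mul_assoc, hSy', Matrix.mul_assoc, Matrix.mul_assoc] at h1
        have := congrArg (((y⁻¹ : GL ι E) : Matrix ι ι E) * ·) h1
        simpa using this
    obtain ⟨α, hα⟩ := hall (W + W') (fun c hc => by rw [add_mul, mul_add, hW c hc, hW'C c hc]) (by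
      rw [Matrix.mul_add, Matrix.add_mul, ← hW', hW'y, add_comm])
    have haC' : ∀ c ∈ C, (a : Matrix ι ι E) * (c : Matrix ι ι E) = c * a := fun c hc => by
      rw [← Units.val_mul, ← Units.val_mul, ((hC c).1 hc).2]
    have hya : (y : Matrix ι ι E) * a * ((y⁻¹ : GL ι E) : Matrix ι ι E) = -(a : Matrix ι ι E) := by
      rw [show (y : Matrix ι ι E) * a = -((a : Matrix ι ι E) * y) by rw [ha', neg_neg], Matrix.neg_mul,
        Matrix.mul_assoc, Units.mul_inv, Matrix.mul_one]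
    obtain ⟨γ, hγ⟩ := hall ((W - W') * (a : Matrix ι ι E)) (fun c hc => by
      rw [Matrix.mul_assoc, haC' c hc, ← Matrix.mul_assoc, sub_mul W W', hW c hc, hW'C c hc, ← mul_sub,
        Matrix.mul_assoc]) (by
      calc (y : Matrix ι ι E) * ((W - W') * a) * ((y⁻¹ : GL ι E) : Matrix ι ι E)
          = ((y : Matrix ι ι E) * (W - W') * ((y⁻¹ : GL ι E) : Matrix ι ι E)) *
            ((y : Matrix ι ι E) * a * ((y⁻¹ : GL ι E) : Matrix ι ι E)) := by
            simp [Matrix.mul_assoc]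
        _ = _ := by rw [hya, Matrix.mul_sub, Matrix.sub_mul, ← hW', hW'y, Matrix.mul_neg, ← Matrix.neg_mul, neg_sub])
    have e1 : W - W' = (-γ) • (a : Matrix ι ι E) := by
      have := congrArg (· * (a : Matrix ι ι E)) hγ
      simp only [Matrix.mul_assoc, h.sq_val a2, Matrix.mul_neg, Matrix.mul_one, Matrix.smul_mul, Matrix.one_mul] at this
      rw [← neg_neg (W - W'), this, neg_smul]
    refine ⟨(2 : E)⁻¹ * α, (2 : E)⁻¹ * -γ, ?_⟩
    rw [← smul_smul, ← smul_smul, ← hα, ← e1, ← smul_add, show W + W' + (W - W') = (2 : E) • W by rw [two_smul]; abel,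
      smul_smul, inv_mul_cancel₀ h.two, one_smul]
  -- squares in the span
  have hsqs : ∀ z : GL ι E, z ∈ Iso J → (∀ c ∈ C, z * c = c * z) →
      (z * z = 1 → z = 1 ∨ z = -1) ∧ (z * z = -1 → z = a ∨ z = -a) := by
    intro z hzJ hzC
    obtain ⟨α, β, hz⟩ := hspan (z : Matrix ι ι E) fun c hc => by rw [← Units.val_mul, ← Units.val_mul, hzC c hc]
    have hzz : ((z * z : GL ι E) : Matrix ι ι E) = (α * α - β * β) • 1 + (2 * α * β) • (a : Matrix ι ι E) := by
      rw [Units.val_mul, hz, Matrix.add_mul, Matrix.mul_add, Matrix.mul_add]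
      simp only [Matrix.smul_mul, Matrix.mul_smul, Matrix.one_mul, Matrix.mul_one, h.sq_val a2, smul_smul, smul_neg]
      rw [sub_smul, show (2 : E) * α * β = α * β + α * β by ring, add_smul, mul_comm β α]
      abel
    have hnorm : α * α + β * β = 1 := by
      have e := mem_iso.1 hzJ
      have e2 : (z : Matrix ι ι E)ᵀ * J * (z : Matrix ι ι E) = (α * α + β * β) • J := by
        rw [hz, Matrix.transpose_add, Matrix.transpose_smul, Matrix.transpose_smul, Matrix.transpose_one,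
          Matrix.add_mul, Matrix.smul_mul, Matrix.smul_mul, Matrix.one_mul, iso_skew (hRJ ha) a2]
        simp only [Matrix.add_mul, Matrix.mul_add, Matrix.smul_mul, Matrix.mul_smul, Matrix.mul_one, Matrix.neg_mul,
          Matrix.mul_assoc, h.sq_val a2, Matrix.mul_neg, smul_neg, neg_neg, smul_smul, smul_add]
        rw [add_smul, mul_comm β α]
        abel
      rw [e] at e2
      have : (α * α + β * β - 1) • J = 0 := by rw [sub_smul, one_smul, ← e2, sub_self]
      exact sub_eq_zero.1 ((smul_eq_zero.1 this).resolve_right hJ)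
    constructor <;> intro e <;> rw [e] at hzz
    · obtain ⟨e1, e2⟩ := hind (α * α - β * β - 1) (2 * α * β) (by
        rw [sub_smul _ (1 : E), one_smul, sub_add_eq_add_sub, ← hzz, Units.val_one, sub_self])
      have hβ : β * β = 0 := by
        have : (2 : E) * (β * β) = 0 := by linear_combination hnorm - e1
        exact (mul_eq_zero.1 this).resolve_left h.two
      obtain rfl : β = 0 := mul_self_eq_zero.1 hβ
      rcases mul_self_eq_one_iff.1 (show α * α = 1 by linear_combination e1) with rfl | rfl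
      · exact Or.inl (Units.ext (by rw [hz]; simp))
      · exact Or.inr (Units.ext (by rw [hz]; simp))
    · obtain ⟨e1, e2⟩ := hind (α * α - β * β + 1) (2 * α * β) (by
        rw [add_smul, one_smul, add_right_comm, ← hzz, Units.val_neg, Units.val_one, neg_add_cancel])
      have hα : α * α = 0 := by
        have : (2 : E) * (α * α) = 0 := by linear_combination hnorm + e1
        exact (mul_eq_zero.1 this).resolve_left h.two
      obtain rfl : α = 0 := mul_self_eq_zero.1 hα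
      rcases mul_self_eq_one_iff.1 (show β * β = 1 by linear_combination -e1) with rfl | rfl
      · exact Or.inl (Units.ext (by rw [hz]; simp))
      · exact Or.inr (Units.ext (by rw [hz]; simp))
  -- the quotient
  obtain ⟨X, hX⟩ : ∃ X : Subgroup (GL ι E), ∀ g, g ∈ X ↔ g ∈ K ∧ g * a = a * g :=
    ⟨K ⊓ Subgroup.centralizer {a}, fun g => by rw [Subgroup.mem_inf, Subgroup.mem_centralizer_singleton_iff]⟩
  have hCX : C ≤ X := fun c hc => (hX c).2 ⟨hRK (hCR hc), ((hC c).1 hc).2⟩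
  obtain ⟨Zc, hZc⟩ : ∃ Zc : Subgroup X, ∀ z : X, z ∈ Zc ↔ ∀ c ∈ C, (z : GL ι E) * c = c * z :=
    ⟨(Subgroup.centralizer (C : Set (GL ι E))).subgroupOf X, fun z => by
      rw [Subgroup.mem_subgroupOf, Subgroup.mem_centralizer_iff]
      exact ⟨fun e c hc => (e c hc).symm, fun e c hc => (e c hc).symm⟩⟩
  have hcent : ∀ z ∈ Zc, ∀ g : X, (g : GL ι E) * z = z * g := by
    intro z hz g
    obtain ⟨α, β, e⟩ := hspan ((z : GL ι E) : Matrix ι ι E) fun c hc => by
      rw [← Units.val_mul, ← Units.val_mul, (hZc z).1 hz c hc]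
    refine Units.ext ?_
    rw [Units.val_mul, Units.val_mul, e, Matrix.mul_add, Matrix.add_mul, Matrix.mul_smul, Matrix.smul_mul,
      Matrix.mul_smul, Matrix.smul_mul, Matrix.mul_one, Matrix.one_mul, ← Units.val_mul, ← Units.val_mul,
      ((hX _).1 g.2).2]
  haveI : Zc.Normal := ⟨fun z hz g => by
    have e : g * z * g⁻¹ = z := by
      rw [mul_inv_eq_iff_eq_mul]
      exact Subtype.ext (hcent z hz g)
    rwa [e]⟩
  obtain ⟨q, hq, hqs⟩ : ∃ q : X →* X ⧸ Zc, (∀ g k, q g = q k ↔ ∃ z ∈ Zc, k = g * z) ∧ Function.Surjective q :=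
    ⟨QuotientGroup.mk' Zc, fun g k => QuotientGroup.mk'_eq_mk' Zc |>.trans
      ⟨fun ⟨z, hz, e⟩ => ⟨z, hz, e.symm⟩, fun ⟨z, hz, e⟩ => ⟨z, hz, e.symm⟩⟩, QuotientGroup.mk'_surjective Zc⟩
  have hq1 : ∀ g, q g = 1 ↔ g ∈ Zc := fun g => by
    rw [← map_one q, eq_comm, hq]
    exact ⟨fun ⟨z, hz, e⟩ => by rwa [e, one_mul], fun hg => ⟨g, hg, (one_mul g).symm⟩⟩
  have haX : a ∈ X := hCX haC
  have haZ : (⟨a, haX⟩ : X) ∈ Zc := (hZc _).2 fun c hc => ((hC c).1 hc).2.symm
  obtain ⟨A, hA⟩ : ∃ A : Subgroup (X ⧸ Zc), ∀ u, u ∈ A ↔ ∃ c : X, (c : GL ι E) ∈ C ∧ q c = u :=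
    ⟨(C.subgroupOf X).map q, fun u => by
      simp only [Subgroup.mem_map, Subgroup.mem_subgroupOf]⟩
  -- commutation is well defined
  obtain ⟨P, hP⟩ : ∃ P : X ⧸ Zc → X ⧸ Zc → Prop, ∀ g k : X,
      (P (q g) (q k) ↔ (g : GL ι E) * k = k * g) := by
    refine ⟨fun u v => ∀ g k : X, q g = u → q k = v → (g : GL ι E) * k = k * g, fun g k =>
      ⟨fun e => e g k rfl rfl, fun e g' k' e1 e2 => ?_⟩⟩
    obtain ⟨z, hz, rfl⟩ := (hq g g').1 e1.symm
    obtain ⟨w, hw, rfl⟩ := (hq k k').1 e2.symm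
    simp only [Subgroup.coe_mul]
    have z1 := hcent z hz k
    have w1 := hcent w hw g
    have zw := hcent w hw z
    calc (g : GL ι E) * z * (k * w) = g * (z * k) * w := by simp only [mul_assoc]
      _ = (g * k) * (z * w) := by rw [← z1]; simp only [mul_assoc]
      _ = (k * g) * (w * z) := by rw [e, zw]
      _ = k * (g * w) * z := by simp only [mul_assoc]
      _ = k * w * (g * z) := by rw [w1]; simp only [mul_assoc]
  -- squares decide the signs
  have hsign : ∀ (g c : X), (c : GL ι E) ∈ C → q g * q c = q c * q g →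
      (g : GL ι E) * c * (g : GL ι E)⁻¹ = c ∨ (g : GL ι E) * c * (g : GL ι E)⁻¹ = -(c : GL ι E) := by
    intro g c hc e
    obtain ⟨z, hz, e'⟩ := (hq (c * g) (g * c)).1 (by rw [map_mul, map_mul, e])
    have e1 : (g : GL ι E) * c * (g : GL ι E)⁻¹ = c * z := by
      have := congrArg Subtype.val e'
      simp only [Subgroup.coe_mul] at this
      rw [mul_inv_eq_iff_eq_mul, mul_assoc, ← hcent z hz g, ← mul_assoc]
      exact this
    have hzc := hcent z hz c
    have e2 : (z : GL ι E) * z = 1 := by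
      have h1 : (g : GL ι E) * (c * c) * (g : GL ι E)⁻¹ = c * c * (z * z) := by
        rw [show (g : GL ι E) * (c * c) * (g : GL ι E)⁻¹ = (g : GL ι E) * c * (g : GL ι E)⁻¹ *
          ((g : GL ι E) * c * (g : GL ι E)⁻¹) by group, e1, mul_assoc, ← mul_assoc (z : GL ι E) c, ← hzc]
        simp only [mul_assoc]
      rcases h.sq _ (hCR hc) with s | s <;> rw [s] at h1
      · simpa using h1.symm
      · rw [mul_neg_one, neg_mul, mul_inv_cancel, neg_one_mul, neg_inj] at h1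
        exact h1.symm
    rcases (hsqs z (hKJ ((hX _).1 z.2).1) ((hZc z).1 hz)).1 e2 with e3 | e3 <;> rw [e3] at e1
    · exact Or.inl (by rw [e1, mul_one])
    · exact Or.inr (by rw [e1, mul_neg_one])
  have hnzA : ∀ g : X, (∀ c ∈ C, (g : GL ι E) * c * (g : GL ι E)⁻¹ ∈ C) → q g ∈ nz A := by
    intro g hg
    haveI : Finite (A : Set (X ⧸ Zc)) := Subtype.finite
    refine Subgroup.mem_normalizer_fintype fun u hu => ?_
    obtain ⟨c, hc, rfl⟩ := (hA u).1 hu
    exact (hA _).2 ⟨g * c * g⁻¹, hg c hc, by rw [map_mul, map_mul, map_inv]⟩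
  have hnmC : ∀ g : X, Nm R (g : GL ι E) → ∀ c ∈ C, (g : GL ι E) * c * (g : GL ι E)⁻¹ ∈ C := fun g hg c hc => by
    refine (hC _).2 ⟨hg c (hCR hc), ?_⟩
    have e1 := ((hX _).1 g.2).2
    have e2 : (g : GL ι E)⁻¹ * a = a * (g : GL ι E)⁻¹ := by
      rw [inv_mul_eq_iff_eq_mul, ← mul_assoc, e1, mul_inv_cancel_right]
    rw [mul_assoc, e2, ← mul_assoc, mul_assoc (g : GL ι E) c a, ((hC c).1 hc).2, ← mul_assoc, e1]
    simp only [mul_assoc]
  have hfix : ∀ {c : GL ι E}, c ∈ C → c * c = -1 → ¬ (c = a ∨ c = -a) → (c * a) * (c * a) = 1 ∧ NC (c * a) := by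
    intro c hc c2 hne
    refine ⟨by rw [h.mul_sq_comm (sg_eq_one_iff.2 ((hC c).1 hc).2), c2, a2]; simp, ?_⟩
    have ai : a⁻¹ = -a := inv_eq_of_mul_eq_one_right (by rw [mul_neg, a2, neg_neg])
    constructor <;> intro e
    · exact hne (Or.inr (by rw [eq_inv_of_mul_eq_one_left e, ai]))
    · exact hne (Or.inl (by rw [eq_mul_inv_of_mul_eq e, ai, neg_one_mul, neg_neg]))
  have hsmall : ∀ c : X, (c : GL ι E) ∈ C → q c ≠ 1 →
      ¬ ((c : GL ι E) = 1 ∨ (c : GL ι E) = -1 ∨ (c : GL ι E) = a ∨ (c : GL ι E) = -a) := by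
    intro c hc hc1 e
    refine hc1 ((hq1 c).2 ((hZc c).2 fun d hd => ?_))
    have hda := ((hC d).1 hd).2
    rcases e with e | e | e | e <;> rw [e] <;> simp [hda]
  have D : Data A P := by
    refine ⟨fun u hu => ?_, fun u hu => ?_, fun u hu => ?_, fun u hu v hv e => ?_, fun u hu v hv w hw => ?_,
      fun u hu hall => ?_, fun k hk u hu v hv e => ?_⟩
    · obtain ⟨c, hc, rfl⟩ := (hA u).1 hu
      rw [← map_mul, hq1, hZc]
      intro d _
      rcases h.sq _ (hCR hc) with e | e <;> simp [Subgroup.coe_mul, e]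
    · obtain ⟨g, rfl⟩ := hqs u
      have hs : ∀ c ∈ C, (g : GL ι E) * c = c * g ∨ (g : GL ι E) * c = -(c * g) := fun c hc => by
        rcases hsign g ⟨c, hCX hc⟩ hc (hu _ ((hA _).2 ⟨⟨c, hCX hc⟩, hc, rfl⟩)) with e | e
        · exact Or.inl (mul_inv_eq_iff_eq_mul.1 e)
        · exact Or.inr (by rw [mul_inv_eq_iff_eq_mul.1 e, neg_mul])
      obtain ⟨s, hs', hsg⟩ := h.exists_match C hCR hs fun x hx hxc => by
        have hxC : ∀ c ∈ C, x * c = c * x := fun c hc => (sg_eq_one_iff.1 (hxc c hc)).symm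
        have e1 := ((hX _).1 g.2).2
        rcases h.sq x (hCR hx) with e | e
        · rcases (hsqs x (hRJ (hCR hx)) hxC).1 e with rfl | rfl <;> simp
        · rcases (hsqs x (hRJ (hCR hx)) hxC).2 e with rfl | rfl <;> simp [e1]
      refine (hA _).2 ⟨⟨s, hCX hs'⟩, hs', (hq _ _).2 ⟨(⟨s, hCX hs'⟩ : X)⁻¹ * g, (hZc _).2 fun c hc => ?_,
        (mul_inv_cancel_left _ g).symm⟩⟩
      have := hsg c hc
      simp only [Subgroup.coe_mul, Subgroup.coe_inv]
      rcases h.comm s (hCR hs') c (hCR hc) with e | e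
      · rw [sg_eq_one_iff.2 e, sg_eq_one_iff] at this
        have e' : s⁻¹ * c = c * s⁻¹ := by rw [inv_mul_eq_iff_eq_mul, ← mul_assoc, e, mul_inv_cancel_right]
        rw [mul_assoc, this, ← mul_assoc, e', mul_assoc]
      · rw [sg_ne_iff.2 (h.not_comm_of_anti e), sg_ne_iff] at this
        have e' : s⁻¹ * c = -(c * s⁻¹) := by
          rw [inv_mul_eq_iff_eq_mul, mul_neg, ← mul_assoc, e, neg_mul, neg_neg, mul_inv_cancel_right]
        rw [mul_assoc, (hs c hc).resolve_left this, mul_neg, ← mul_assoc, e', neg_mul, neg_neg, mul_assoc]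
    · obtain ⟨c, hc, rfl⟩ := (hA u).1 hu
      exact (hP c c).2 rfl
    · obtain ⟨c, hc, rfl⟩ := (hA u).1 hu
      obtain ⟨d, hd, rfl⟩ := (hA v).1 hv
      exact (hP d c).2 ((hP c d).1 e).symm
    · obtain ⟨c, hc, rfl⟩ := (hA u).1 hu
      obtain ⟨d, hd, rfl⟩ := (hA v).1 hv
      obtain ⟨k, hk, rfl⟩ := (hA w).1 hw
      rw [← map_mul, hP, hP, hP, Subgroup.coe_mul, ← sg_eq_one_iff, ← sg_eq_one_iff, ← sg_eq_one_iff,
        h.sg_mul (hCR hc) (hCR hd) (hCR hk)]
      rcases h.sg_cases (c : GL ι E) (k : GL ι E) with e | e <;>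
        rcases h.sg_cases (d : GL ι E) (k : GL ι E) with e' | e' <;> simp [e, e']
    · obtain ⟨c, hc, rfl⟩ := (hA u).1 hu
      refine (hq1 c).2 ((hZc c).2 fun d hd => ?_)
      exact (hP c ⟨d, hCX hd⟩).1 (hall _ ((hA _).2 ⟨⟨d, hCX hd⟩, hd, rfl⟩))
    · obtain ⟨g, rfl⟩ := hqs k
      obtain ⟨c, hc, rfl⟩ := (hA u).1 hu
      obtain ⟨d, hd, rfl⟩ := (hA v).1 hv
      rw [← map_inv, ← map_mul, ← map_mul, ← map_mul, ← map_mul, hP]
      simp only [Subgroup.coe_mul, Subgroup.coe_inv]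
      have e' := (hP c d).1 e
      calc (g : GL ι E) * c * (g : GL ι E)⁻¹ * ((g : GL ι E) * d * (g : GL ι E)⁻¹)
          = g * (c * d) * (g : GL ι E)⁻¹ := by group
        _ = g * (d * c) * (g : GL ι E)⁻¹ := by rw [e']
        _ = _ := by group
  have hC' : ∀ u ∈ A, u ≠ 1 → ∀ k, k * u = u * k → k ∈ nz A := by
    intro u hu hu1 k e
    obtain ⟨c, hc, rfl⟩ := (hA u).1 hu
    obtain ⟨g, rfl⟩ := hqs k
    have hne := hsmall c hc hu1
    push Not at hne
    refine hnzA g (hnmC g ?_)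
    have hgK := ((hX _).1 g.2).1
    have e1 := ((hX _).1 g.2).2
    rcases h.sq _ (hCR hc) with c2 | c2
    · exact h.nm_of_pm hRK hS (hCR hc) c2 ⟨hne.1, hne.2.1⟩ hgK (hsign g c hc e)
    · obtain ⟨x2, x1⟩ := hfix hc c2 (by push Not; exact ⟨hne.2.2.1, hne.2.2.2⟩)
      refine h.nm_of_pm hRK hS (mul_mem (hCR hc) ha) x2 x1 hgK ?_
      have ea : (g : GL ι E) * a * (g : GL ι E)⁻¹ = a := by rw [e1, mul_inv_cancel_right]
      rw [show (g : GL ι E) * ((c : GL ι E) * a) * (g : GL ι E)⁻¹ =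
        (g : GL ι E) * c * (g : GL ι E)⁻¹ * ((g : GL ι E) * a * (g : GL ι E)⁻¹) by group, ea]
      rcases hsign g c hc e with e' | e' <;> rw [e']
      · exact Or.inl rfl
      · exact Or.inr (neg_mul _ _)
  have hliftX : ∀ p ∈ C, p * p = -1 → sc h.half * (tl p * tl a) ∈ X := by
    intro p hp p2
    refine (hX _).2 ⟨hK _ (h.lift_pair_iso (hRJ (hCR hp)) (hRJ ha) p2 a2) (h.lift_pair_nm (hCR hp) ha p2 a2),
      mul_inv_eq_iff_eq_mul.1 ?_⟩
    rw [sc_conj', show tl p * tl a * a * (tl p * tl a)⁻¹ = tl p * (tl a * a * (tl a)⁻¹) * (tl p)⁻¹ by group,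
      h.tl_fix a2 rfl, h.tl_fix p2 ((hC p).1 hp).2]
  have hT : HasTrans A P := by
    intro u hu hu1
    obtain ⟨c, hc, rfl⟩ := (hA u).1 hu
    obtain ⟨p, hp, hpq, p2⟩ : ∃ p : X, (p : GL ι E) ∈ C ∧ q p = q c ∧ (p : GL ι E) * p = -1 := by
      rcases h.sq _ (hCR hc) with e | e
      · refine ⟨c * ⟨a, haX⟩, mul_mem hc haC, by rw [map_mul, (hq1 _).2 haZ, mul_one], ?_⟩
        show (c : GL ι E) * a * ((c : GL ι E) * a) = -1
        rw [h.mul_sq_comm (sg_eq_one_iff.2 ((hC _).1 hc).2), e, a2, one_mul]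
      · exact ⟨c, hc, rfl, e⟩
    rw [← hpq] at hu1 ⊢
    clear hpq hc hu c
    obtain ⟨T, hTdef⟩ : ∃ T : X, (T : GL ι E) = sc h.half * (tl (p : GL ι E) * tl a) := ⟨⟨_, hliftX _ hp p2⟩, rfl⟩
    have hTconj : ∀ v : GL ι E, v * a = a * v →
        (T : GL ι E) * v * (T : GL ι E)⁻¹ = tl (p : GL ι E) * v * (tl (p : GL ι E))⁻¹ := fun v hv => by
      rw [hTdef, sc_conj', show tl (p : GL ι E) * tl a * v * (tl (p : GL ι E) * tl a)⁻¹ =
        tl (p : GL ι E) * (tl a * v * (tl a)⁻¹) * (tl (p : GL ι E))⁻¹ by group, h.tl_fix a2 hv.symm]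
    refine ⟨q T, ⟨hnzA T (hnmC T (hTdef ▸ h.lift_pair_nm (hCR hp) ha p2 a2)), fun x hx => ?_⟩, ?_, fun b _ hbb hbp => ?_⟩
    · obtain ⟨d, hd, rfl⟩ := (hA x).1 hx
      rw [hP]
      constructor <;> intro e
      · rw [← map_inv, ← map_mul, ← map_mul]
        congr 1
        refine Subtype.ext ?_
        simp only [Subgroup.coe_mul, Subgroup.coe_inv]
        rw [hTconj _ ((hC _).1 hd).2, h.tl_fix p2 e.symm]
      · have e' := (h.comm _ (hCR hp) _ (hCR hd)).resolve_left (fun e0 => e e0.symm)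
        rw [← map_inv, ← map_mul, ← map_mul]
        rw [show T * d * T⁻¹ = p * d from Subtype.ext (by
          simp only [Subgroup.coe_mul, Subgroup.coe_inv]
          rw [hTconj _ ((hC _).1 hd).2, h.tl_move p2 e'])]
        rw [map_mul]
        exact D.comm ((hA _).2 ⟨p, hp, rfl⟩) ((hA _).2 ⟨d, hd, rfl⟩)
    · rw [← map_mul]
      refine ((hq _ _).2 ⟨⟨a, haX⟩, haZ, ?_⟩).symm
      refine Subtype.ext (Units.ext ?_)
      have ep := h.sq_val p2
      have ea := h.sq_val a2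
      have epa : ((p : GL ι E) : Matrix ι ι E) * a = (a : Matrix ι ι E) * (p : GL ι E) := by
        rw [← Units.val_mul, ← Units.val_mul, ((hC _).1 hp).2]
      simp only [Subgroup.coe_mul, hTdef, Units.val_mul, sc_val, h.half_val, h.tl_val p2, h.tl_val a2,
        Matrix.smul_mul, Matrix.one_mul, Matrix.mul_smul, smul_smul]
      rw [show ((1 : Matrix ι ι E) + (p : GL ι E)) * (1 + (a : Matrix ι ι E)) *
          ((1 + ((p : GL ι E) : Matrix ι ι E)) * (1 + (a : Matrix ι ι E))) =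
          (1 + ((p : GL ι E) : Matrix ι ι E)) * (1 + (p : GL ι E)) * ((1 + (a : Matrix ι ι E)) * (1 + a)) by
        have hc' : (1 + (a : Matrix ι ι E)) * (1 + ((p : GL ι E) : Matrix ι ι E)) =
            (1 + ((p : GL ι E) : Matrix ι ι E)) * (1 + (a : Matrix ι ι E)) := by
          simp only [add_mul, mul_add, one_mul, mul_one, epa]; abel
        rw [Matrix.mul_assoc, ← Matrix.mul_assoc (1 + (a : Matrix ι ι E)), hc']
        simp only [Matrix.mul_assoc]]
      rw [show ((1 : Matrix ι ι E) + (p : GL ι E)) * (1 + (p : GL ι E)) = (2 : E) • ((p : GL ι E) : Matrix ι ι E) by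
          rw [add_mul, mul_add, mul_add, one_mul, mul_one, one_mul, ep, two_smul]; abel,
        show ((1 : Matrix ι ι E) + (a : Matrix ι ι E)) * (1 + a) = (2 : E) • (a : Matrix ι ι E) by
          rw [add_mul, mul_add, mul_add, one_mul, mul_one, one_mul, ea, two_smul]; abel,
        Matrix.smul_mul, Matrix.mul_smul, smul_smul, smul_smul,
        show (2 : E)⁻¹ * (2 : E)⁻¹ * 2 * 2 = 1 by field_simp [h.two], one_smul]
    · obtain ⟨g, rfl⟩ := hqs b
      have e1 := ((hX _).1 g.2).2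
      have hgp := hsign g p hp hbp
      constructor
      · rcases hgp with e | e
        · left
          rw [← map_inv, ← map_mul, ← map_mul]
          congr 1
          refine Subtype.ext ?_
          simp only [Subgroup.coe_mul, Subgroup.coe_inv]
          rw [hTconj _ e1, h.tl_fix p2 (mul_inv_eq_iff_eq_mul.1 e).symm]
        · right
          rw [← map_inv, ← map_mul, ← map_mul, ← map_mul]
          congr 1
          refine Subtype.ext ?_
          simp only [Subgroup.coe_mul, Subgroup.coe_inv]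
          rw [hTconj _ e1, h.tl_move p2 (by rw [mul_inv_eq_iff_eq_mul.1 e, neg_mul, neg_neg])]
      · intro hfx w hw hwe
        have hcomm : (g : GL ι E) * p = p * g := by
          rcases hgp with e | e
          · exact mul_inv_eq_iff_eq_mul.1 e
          · exfalso
            rw [← map_inv, ← map_mul, ← map_mul] at hfx
            rw [show T * g * T⁻¹ = p * g from Subtype.ext (by
              simp only [Subgroup.coe_mul, Subgroup.coe_inv]
              rw [hTconj _ e1, h.tl_move p2 (by rw [mul_inv_eq_iff_eq_mul.1 e, neg_mul, neg_neg])]), map_mul] at hfx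
            exact hu1 (mul_eq_right.1 hfx)
        obtain ⟨d, hd, rfl⟩ := (hA w).1 hw
        rw [hP]
        refine (h.comm _ (hCR hd) _ (hCR hp)).resolve_right fun hdp => ?_
        have hd1 : q d * q d = 1 := D.sq _ ((hA _).2 ⟨d, hd, rfl⟩)
        have e2 : q (g * d * g⁻¹) = q (d * p) := by
          rw [map_mul, map_mul, map_inv, inv_eq_of_mul_eq_one_right hbb, map_mul, ← hwe, ← mul_assoc, hd1, one_mul]
        obtain ⟨z, hz, e3⟩ := (hq _ _).1 e2.symm
        have e4 : (g : GL ι E) * d * (g : GL ι E)⁻¹ = d * p * z := by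
          simpa only [Subgroup.coe_mul, Subgroup.coe_inv] using congrArg Subtype.val e3
        have hzd := hcent z hz d
        have hzp := hcent z hz p
        have hz2 : (z : GL ι E) * z = 1 := by
          have h1 : (g : GL ι E) * (d * d) * (g : GL ι E)⁻¹ = d * p * (d * p) * (z * z) := by
            rw [show (g : GL ι E) * (d * d) * (g : GL ι E)⁻¹ = (g : GL ι E) * d * (g : GL ι E)⁻¹ *
              ((g : GL ι E) * d * (g : GL ι E)⁻¹) by group, e4]
            have hdpz : (d : GL ι E) * p * z = z * (d * p) := by rw [mul_assoc, hzp, ← mul_assoc, hzd, mul_assoc]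
            calc (d : GL ι E) * p * z * (d * p * z) = d * p * (z * (d * p)) * z := by simp only [mul_assoc]
              _ = _ := by rw [← hdpz]; simp only [mul_assoc]
          rw [h.mul_sq_anti (hCR hd) (hCR hp) ((h.sg_neg_iff (hCR hd) (hCR hp)).2 hdp), p2, mul_neg_one,
            neg_neg] at h1
          rcases h.sq _ (hCR hd) with s | s <;> rw [s] at h1
          · simpa using h1.symm
          · rw [mul_neg_one, neg_mul, mul_inv_cancel, neg_one_mul, neg_inj] at h1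
            exact h1.symm
        obtain ⟨ε, hεc, hε, hεz⟩ : ∃ ε : GL ι E, (∀ v, ε * v = v * ε) ∧ ε * ε = 1 ∧ (z : GL ι E) = ε := by
          rcases (hsqs z (hKJ ((hX _).1 z.2).1) ((hZc z).1 hz)).1 hz2 with e | e
          · exact ⟨1, fun v => by simp, one_mul 1, e⟩
          · exact ⟨-1, fun v => by simp, by simp, e⟩
        rw [hεz] at e4
        have hgg : (g : GL ι E) * g * d = d * ((g : GL ι E) * g) := by
          have := (hq1 (g * g)).1 (by rw [map_mul, hbb])
          simpa only [Subgroup.coe_mul] using (hZc _).1 this d hd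
        have h5 : (g : GL ι E) * g * d * ((g : GL ι E) * g)⁻¹ = -(d : GL ι E) := by
          rw [show (g : GL ι E) * g * d * ((g : GL ι E) * g)⁻¹ =
            g * ((g : GL ι E) * d * (g : GL ι E)⁻¹) * (g : GL ι E)⁻¹ by group, e4]
          rw [show (g : GL ι E) * (d * p * ε) * (g : GL ι E)⁻¹ =
            (g : GL ι E) * d * (g : GL ι E)⁻¹ * ((g : GL ι E) * p * (g : GL ι E)⁻¹) *
              ((g : GL ι E) * ε * (g : GL ι E)⁻¹) by group, e4, hcomm, mul_inv_cancel_right, ← hεc (g : GL ι E),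
            mul_inv_cancel_right]
          calc (d : GL ι E) * p * ε * p * ε = d * (p * p) * (ε * ε) := by
                rw [show (d : GL ι E) * p * ε * p = d * p * (ε * p) by simp only [mul_assoc], hεc]
                simp only [mul_assoc]
            _ = _ := by rw [p2, hε]; simp
        rw [hgg, mul_inv_cancel_right] at h5
        exact h.ne_neg _ h5
  obtain ⟨p, q₁, Q, pa, py, qa, qy⟩ := h.exists_pair_perp ⟨ha, hy, hay⟩ (by omega)
  obtain ⟨p₂, q₂, Q₂, p₂a, p₂y, q₂a, q₂y, p₂p, p₂q, q₂p, q₂q⟩ :=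
    h.exists_pair_perp₂ ⟨ha, hy, hay⟩ Q pa py qa qy (by omega)
  have hpC : p ∈ C := (hC p).2 ⟨Q.ha, sg_eq_one_iff.1 pa⟩
  have hqC : q₁ ∈ C := (hC _).2 ⟨Q.hb, sg_eq_one_iff.1 qa⟩
  have hp2C : p₂ ∈ C := (hC _).2 ⟨Q₂.ha, sg_eq_one_iff.1 p₂a⟩
  have hcard : 4 < Nat.card A := by
    obtain ⟨f, hf⟩ : ∃ f : Bool × Bool × Bool → A, ∀ t, ∃ c : X, ((f t) : X ⧸ Zc) = q c ∧ (c : GL ι E) =
        (bif t.1 then p else 1) * (bif t.2.1 then q₁ else 1) * (bif t.2.2 then p₂ else 1) := by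
      have hm : ∀ t : Bool × Bool × Bool,
          (bif t.1 then p else 1) * (bif t.2.1 then q₁ else 1) * (bif t.2.2 then p₂ else 1) ∈ C := fun t => by
        refine mul_mem (mul_mem ?_ ?_) ?_
        · cases t.1; exacts [one_mem C, hpC]
        · cases t.2.1; exacts [one_mem C, hqC]
        · cases t.2.2; exacts [one_mem C, hp2C]
      exact ⟨fun t => ⟨q ⟨_, hCX (hm t)⟩, (hA _).2 ⟨⟨_, hCX (hm t)⟩, hm t, rfl⟩⟩, fun t => ⟨⟨_, hCX (hm t)⟩, rfl, rfl⟩⟩
    have hinj : Function.Injective f := by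
      rintro ⟨i, j, k⟩ ⟨i', j', k'⟩ e
      obtain ⟨c, hc, hcv⟩ := hf (i, j, k)
      obtain ⟨c', hc', hcv'⟩ := hf (i', j', k')
      rw [e, hc'] at hc
      obtain ⟨z, hz, hcc⟩ := (hq _ _).1 hc
      have hs : ∀ d ∈ C, sg (c : GL ι E) d = sg (c' : GL ι E) d := by
        intro d hd
        have hzd := (hZc z).1 hz d hd
        rcases h.sg_cases (c' : GL ι E) d with e' | e' <;> rw [e']
        · rw [sg_eq_one_iff] at e' ⊢
          rw [hcc, Subgroup.coe_mul, mul_assoc, hzd, ← mul_assoc, e', mul_assoc]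
        · rw [sg_ne_iff] at e' ⊢
          rw [hcc, Subgroup.coe_mul, mul_assoc, hzd, ← mul_assoc, ← mul_assoc d]
          exact fun e0 => e' (mul_right_cancel e0)
      have hq₂C : q₂ ∈ C := (hC _).2 ⟨Q₂.hb, sg_eq_one_iff.1 q₂a⟩
      have t1 := hs q₁ hqC
      have t2 := hs p hpC
      have t3 := hs q₂ hq₂C
      rw [hcv, hcv'] at t1 t2 t3
      have w1 : sg q₁ p = -1 := by rw [sg_comm, Q.anti]
      have w2 : sg q₁ q₂ = 1 := by rw [sg_comm, q₂q]
      have w3 : sg p q₂ = 1 := by rw [sg_comm, q₂p]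
      have hmX : ∀ (b : Bool) (u : GL ι E), u ∈ R → (bif b then u else 1) ∈ R := fun b u hu => by
        cases b; exacts [one_mem R, hu]
      simp only [h.sg_mul (mul_mem (hmX _ _ Q.ha) (hmX _ _ Q.hb)) (hmX _ _ Q₂.ha) Q.hb,
        h.sg_mul (hmX _ _ Q.ha) (hmX _ _ Q.hb) Q.hb,
        h.sg_mul (mul_mem (hmX _ _ Q.ha) (hmX _ _ Q.hb)) (hmX _ _ Q₂.ha) Q.ha,
        h.sg_mul (hmX _ _ Q.ha) (hmX _ _ Q.hb) Q.ha,
        h.sg_mul (mul_mem (hmX _ _ Q.ha) (hmX _ _ Q.hb)) (hmX _ _ Q₂.ha) Q₂.hb,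
        h.sg_mul (hmX _ _ Q.ha) (hmX _ _ Q.hb) Q₂.hb] at t1 t2 t3
      have o : ∀ u : GL ι E, sg (1 : GL ι E) u = 1 := fun u => by simp [sg]
      cases i <;> cases j <;> cases k <;> cases i' <;> cases j' <;> cases k' <;>
        simp [o, Q.anti, Q₂.anti, w1, w2, w3, p₂p, p₂q, sg_self] at t1 t2 t3 <;> rfl
    have := Nat.card_le_card_of_injective f hinj
    simp only [Nat.card_eq_fintype_card (α := Bool × Bool × Bool), Fintype.card_prod, Fintype.card_bool] at this
    omega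
  have htop := D.eq_top_of_trans hT hcard hC'
  -- an involution of the centraliser is brought back
  obtain ⟨x, hx, x2, x1⟩ : ∃ x ∈ C, x * x = 1 ∧ NC x := by
    have hne : ¬ (p = a ∨ p = -a) := by
      rintro (rfl | rfl)
      · rw [py] at hay; norm_num at hay
      · have e : sg a y = 1 := by
          rw [← neg_one_mul, h.sg_mul h.neg ha hy, show sg (-1 : GL ι E) y = 1 by simp [sg], one_mul] at py
          exact py
        rw [e] at hay; norm_num at hay
    rcases h.sq p Q.ha with e | e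
    · exact ⟨p, hpC, e, (h.pair_nc Q).1⟩
    · exact ⟨_, mul_mem hpC haC, hfix hpC e hne⟩
  obtain ⟨g, hg⟩ : ∃ g : X, (g : GL ι E) = g₀ := ⟨⟨g₀, (hX _).2 ⟨hg₀, hg₀a⟩⟩, rfl⟩
  have hgN : q g ∈ nz A := htop ▸ Subgroup.mem_top _
  obtain ⟨c, hc, hc'⟩ := (hA _).1 ((Subgroup.mem_normalizer_iff.1 hgN _).1 ((hA _).2 ⟨⟨x, hCX hx⟩, hx, rfl⟩))
  rw [← map_inv, ← map_mul, ← map_mul, hq] at hc'
  obtain ⟨z, hz, e⟩ := hc'
  obtain ⟨x', hx'⟩ : ∃ x', x' = g₀ * x * g₀⁻¹ := ⟨_, rfl⟩
  have e' : x' = c * z := by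
    rw [hx', ← hg]
    simpa only [Subgroup.coe_mul, Subgroup.coe_inv] using congrArg Subtype.val e
  have x'2 : x' * x' = 1 := by
    rw [hx', show g₀ * x * g₀⁻¹ * (g₀ * x * g₀⁻¹) = g₀ * (x * x) * g₀⁻¹ by group, x2, mul_one, mul_inv_cancel]
  have hx'C : x' ∈ C := by
    have hzc := hcent z hz c
    have hzz : (c : GL ι E) * c * ((z : GL ι E) * z) = 1 := by
      rw [← x'2, e']
      calc (c : GL ι E) * c * ((z : GL ι E) * z) = c * (c * z) * z := by simp only [mul_assoc]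
        _ = c * z * (c * z) := by conv_lhs => rw [hzc]
                                  simp only [mul_assoc]
    have hzm : (z : GL ι E) ∈ C := by
      rcases h.sq _ (hCR hc) with s | s <;> rw [s] at hzz
      · rcases (hsqs z (hKJ ((hX _).1 z.2).1) ((hZc z).1 hz)).1 (by simpa using hzz) with e0 | e0 <;> rw [e0]
        · exact one_mem C
        · exact (hC _).2 ⟨h.neg, by simp⟩
      · rcases (hsqs z (hKJ ((hX _).1 z.2).1) ((hZc z).1 hz)).2 (by
          rw [neg_one_mul, neg_eq_iff_eq_neg] at hzz; exact hzz) with e0 | e0 <;> rw [e0]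
        · exact haC
        · exact (hC _).2 ⟨h.neg_mem ha, by simp⟩
    rw [e']
    exact mul_mem hc hzm
  have x'1 : NC x' := by
    constructor <;> intro e0 <;> rw [hx'] at e0
    · exact x1.1 (conj_eq_one_iff.1 e0)
    · refine x1.2 ?_
      have := congrArg (fun t => g₀⁻¹ * t * g₀) e0
      simpa [mul_assoc] using this
  -- moves among the involutions
  have move : ∀ {u v : GL ι E}, u ∈ C → v ∈ C → u * u = 1 → v * v = 1 → sg u v = -1 →
      ∃ n ∈ K, Nm R n ∧ (n * u * n⁻¹ = v ∨ n * u * n⁻¹ = -v) := by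
    intro u v hu hv u2 v2 euv
    have huv : u * v ∈ C := mul_mem hu hv
    have e2 : u * v * (u * v) = -1 := by rw [h.mul_sq_anti (hCR hu) (hCR hv) euv, u2, v2, one_mul]
    refine ⟨_, ((hX _).1 (hliftX _ huv e2)).1, h.lift_pair_nm (hCR huv) ha e2 a2, Or.inr ?_⟩
    have hvu := (h.sg_neg_iff (hCR hv) (hCR hu)).1 (by rw [sg_comm, euv])
    have han : u * v * u = -(u * (u * v)) := by rw [mul_assoc, hvu, mul_neg]
    rw [sc_conj', show tl (u * v) * tl a * u * (tl (u * v) * tl a)⁻¹ =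
      tl (u * v) * (tl a * u * (tl a)⁻¹) * (tl (u * v))⁻¹ by group, h.tl_fix a2 ((hC u).1 hu).2.symm,
      h.tl_move e2 han, han, ← mul_assoc, u2, one_mul]
  obtain ⟨n, hn', hnN, hnx⟩ : ∃ n ∈ K, Nm R n ∧ (n * x' * n⁻¹ = x ∨ n * x' * n⁻¹ = -x) := by
    rcases h.sg_cases x' x with e0 | e0
    swap
    · exact move hx'C hx x'2 x2 e0
    by_cases hxx : x' = x ∨ x' = -x
    · exact ⟨1, one_mem _, fun r hr => by simpa using hr, by simpa using hxx⟩
    push Not at hxx
    have hax : ∀ {u : GL ι E}, u ∈ C → u * u = 1 → NC (a * u) := fun {u} hu u2 => by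
      constructor <;> intro e1 <;>
      · have h2' := congrArg (fun t => t * t) e1
        rw [h.mul_sq_comm (sg_eq_one_iff.2 ((hC u).1 hu).2.symm), u2, a2] at h2'
        simp only [mul_one, neg_mul_neg] at h2'
        exact h.one_ne_neg_one h2'.symm
    obtain ⟨c₁, hc₁, c1a, c1x⟩ := h.sep ha (hCR hx'C) x'1 (hax hx'C x'2)
    obtain ⟨c₂, hc₂, c2a, c2x⟩ := h.sep ha (hCR hx) x1 (hax hx x2)
    obtain ⟨w, hw, hwa, hw', hwx⟩ : ∃ w ∈ R, sg w a = 1 ∧ sg w x' = -1 ∧ sg w x = -1 := by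
      rcases h.sg_cases c₁ x with e1 | e1
      swap
      · exact ⟨c₁, hc₁, c1a, c1x, e1⟩
      rcases h.sg_cases c₂ x' with e2 | e2
      swap
      · exact ⟨c₂, hc₂, c2a, e2, c2x⟩
      exact ⟨c₁ * c₂, mul_mem hc₁ hc₂, by rw [h.sg_mul hc₁ hc₂ ha, c1a, c2a, one_mul],
        by rw [h.sg_mul hc₁ hc₂ (hCR hx'C), c1x, e2, mul_one], by rw [h.sg_mul hc₁ hc₂ (hCR hx), e1, c2x, one_mul]⟩
    obtain ⟨w', hwC', w'2, w'x', w'x⟩ : ∃ w' ∈ C, w' * w' = 1 ∧ sg x' w' = -1 ∧ sg w' x = -1 := by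
      have hwC : w ∈ C := (hC w).2 ⟨hw, sg_eq_one_iff.1 hwa⟩
      rcases h.sq w hw with e1 | e1
      · exact ⟨w, hwC, e1, by rw [sg_comm, hw'], hwx⟩
      · refine ⟨w * a, mul_mem hwC haC, ?_, ?_, ?_⟩
        · rw [h.mul_sq_comm hwa, e1, a2]; simp
        · rw [sg_comm, h.sg_mul hw ha (hCR hx'C), hw', sg_eq_one_iff.2 ((hC _).1 hx'C).2.symm, mul_one]
        · rw [h.sg_mul hw ha (hCR hx), hwx, sg_eq_one_iff.2 ((hC _).1 hx).2.symm, mul_one]
    obtain ⟨n₁, hn₁, n₁N, en₁⟩ := move hx'C hwC' x'2 w'2 w'x'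
    obtain ⟨n₂, hn₂, n₂N, en₂⟩ := move hwC' hx w'2 x2 w'x
    refine ⟨n₂ * n₁, mul_mem hn₂ hn₁, n₂N.mul n₁N, ?_⟩
    rw [show n₂ * n₁ * x' * (n₂ * n₁)⁻¹ = n₂ * (n₁ * x' * n₁⁻¹) * n₂⁻¹ by group]
    rcases en₁ with e1 | e1 <;> rw [e1] <;> rcases en₂ with e2 | e2 <;> simp [e2]
  have := h.nm_of_pm hRK hS (hCR hx) x2 x1 (mul_mem hn' hg₀) (by
    rw [show n * g₀ * x * (n * g₀)⁻¹ = n * (g₀ * x * g₀⁻¹) * n⁻¹ by group, ← hx']
    exact hnx)
  simpa using (nm_inv hnN).mul this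

end SR

end Cfsg.Agent.ClassicalMax.SympMinus
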