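import Cfsg.Agent.ClassicalMax.SympMinus.CentFour
import Cfsg.Agent.Classical.AltBasis
import Cfsg.Agent.Classical.AltSimple
import Cfsg.Agent.Classical.SympGroup
import Cfsg.Agent.ClassicalMax.Symplectic

/-!
Changes of coordinates preserving forms, the block coordinates of a pair of anticommuting involutions, and simplicity
of the symplectic groups.
-/

set_option autoImplicit false
set_option linter.unusedSectionVars false

namespace Cfsg.Agent.ClassicalMax.SympMinus

open Matrix SympType Module Cfsg.Agent.Classical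

variable {ι : Type*} [Fintype ι] [DecidableEq ι] {E : Type*} [Field E] {ι' : Type*} [Fintype ι'] [DecidableEq ι']

/-- A change of coordinates carrying one form to the other. -/
structure Chart (J : Matrix ι ι E) (J' : Matrix ι' ι' E) where
  /-- the change of coordinates -/
  ψ : Matrix ι ι E ≃ₐ[E] Matrix ι' ι' E
  iso : ∀ g : GL ι E, Units.mapEquiv ψ.toMulEquiv g ∈ Iso J' ↔ g ∈ Iso J
  card : Fintype.card ι' = Fintype.card ι

namespace Chart

variable {J : Matrix ι ι E} {J' : Matrix ι' ι' E} (c : Chart J J')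

/-- The induced isomorphism of groups. -/
def φ : GL ι E ≃* GL ι' E := Units.mapEquiv c.ψ.toMulEquiv

theorem φ_val (g : GL ι E) : (c.φ g : Matrix ι' ι' E) = c.ψ (g : Matrix ι ι E) := rfl

theorem φ_neg (g : GL ι E) : c.φ (-g) = -c.φ g :=
  Units.ext (by rw [Units.val_neg, φ_val, φ_val, Units.val_neg, map_neg])

theorem φ_neg_one : c.φ (-1) = -1 := by rw [φ_neg, map_one]

/-- The image of a group. -/
def img (R : Subgroup (GL ι E)) : Subgroup (GL ι' E) := R.map c.φ.toMonoidHom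

theorem mem_img {R : Subgroup (GL ι E)} {g : GL ι E} : c.φ g ∈ c.img R ↔ g ∈ R := by
  constructor
  · rintro ⟨g', hg', e⟩
    rwa [c.φ.injective e] at hg'
  · exact fun hg => Subgroup.mem_map_of_mem _ hg

theorem exists_pre {R : Subgroup (GL ι E)} {g' : GL ι' E} (hg : g' ∈ c.img R) : ∃ g ∈ R, c.φ g = g' := by
  obtain ⟨g, hg, e⟩ := hg
  exact ⟨g, hg, e⟩

theorem img_le {R : Subgroup (GL ι E)} (h : R ≤ Iso J) : c.img R ≤ Iso J' := fun g' hg' => by
  obtain ⟨g, hg, rfl⟩ := c.exists_pre hg'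
  exact (c.iso g).2 (h hg)

theorem img_sr {R : Subgroup (GL ι E)} (h : SR R) : SR (c.img R) where
  two := h.two
  neg := c.φ_neg_one ▸ c.mem_img.2 h.neg
  comm x' hx' y' hy' := by
    obtain ⟨x, hx, rfl⟩ := c.exists_pre hx'
    obtain ⟨y, hy, rfl⟩ := c.exists_pre hy'
    rcases h.comm x hx y hy with e | e
    · exact Or.inl (by rw [← map_mul, e, map_mul])
    · exact Or.inr (by rw [← map_mul, e, φ_neg, map_mul])
  sq x' hx' := by
    obtain ⟨x, hx, rfl⟩ := c.exists_pre hx'
    rcases h.sq x hx with e | e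
    · exact Or.inl (by rw [← map_mul, e, map_one])
    · exact Or.inr (by rw [← map_mul, e, φ_neg_one])
  pm x' hx' hc := by
    obtain ⟨x, hx, rfl⟩ := c.exists_pre hx'
    rcases h.pm x hx fun y hy => c.φ.injective (by rw [map_mul, map_mul, hc _ (c.mem_img.2 hy)]) with e | e
    · exact Or.inl (by rw [e, map_one])
    · exact Or.inr (by rw [e, φ_neg_one])
  irr N hN := by
    obtain ⟨d, hd⟩ := h.irr (c.ψ.symm N) fun x hx => c.ψ.injective (by
      rw [map_mul, map_mul, c.ψ.apply_symm_apply]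
      exact hN _ (c.mem_img.2 hx))
    refine ⟨d, ?_⟩
    rw [← c.ψ.apply_symm_apply N, hd, map_smul, map_one]
  card := by rw [img, ← Nat.card_congr (R.equivMapOfInjective c.φ.toMonoidHom c.φ.injective).toEquiv, h.card, c.card]

theorem img_minus {R : Subgroup (GL ι E)} (h : Minus R) : Minus (c.img R) := by
  intro A hA hcm h2
  have e : A = (A.comap c.φ.toMonoidHom).map c.φ.toMonoidHom :=
    (Subgroup.map_comap_eq_self_of_surjective c.φ.surjective A).symm
  rw [e, ← Nat.card_congr ((A.comap c.φ.toMonoidHom).equivMapOfInjective c.φ.toMonoidHom c.φ.injective).toEquiv,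
    c.card]
  refine h _ (fun g hg => c.mem_img.1 (hA hg)) (fun a ha b hb => c.φ.injective ?_) (fun a ha => c.φ.injective ?_)
  · rw [map_mul, map_mul]; exact hcm _ ha _ hb
  · rw [map_mul, map_one]; exact h2 _ ha

theorem img_nm {R : Subgroup (GL ι E)} {g : GL ι E} : Nm (c.img R) (c.φ g) ↔ Nm R g := by
  refine ⟨fun h r hr => c.mem_img.1 ?_, fun h r' hr' => ?_⟩
  · rw [map_mul, map_mul, map_inv]
    exact h _ (c.mem_img.2 hr)
  · obtain ⟨r, hr, rfl⟩ := c.exists_pre hr'
    rw [← map_inv, ← map_mul, ← map_mul]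
    exact c.mem_img.2 (h r hr)

theorem img_small {R K : Subgroup (GL ι E)} {x : GL ι E} : Small (c.img R) (c.img K) (c.φ x) ↔ Small R K x := by
  constructor
  · intro h g hg e u hu eu
    obtain ⟨r', hr', e'⟩ := h _ (c.mem_img.2 hg) (by rw [← map_mul, e, map_mul]) _ (c.mem_img.2 hu)
      (by rw [← map_mul, eu, map_mul])
    obtain ⟨r, hr, rfl⟩ := c.exists_pre hr'
    refine ⟨r, hr, c.ψ.injective ?_⟩
    rw [map_mul, map_mul, map_add, map_one, ← φ_val, ← φ_val, ← φ_val, map_mul, map_mul, map_inv]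
    exact e'
  · intro h g' hg' e u' hu' eu
    obtain ⟨g, hg, rfl⟩ := c.exists_pre hg'
    obtain ⟨u, hu, rfl⟩ := c.exists_pre hu'
    rw [← map_mul, ← map_mul] at e eu
    obtain ⟨r, hr, e'⟩ := h g hg (c.φ.injective e) u hu (c.φ.injective eu)
    refine ⟨c.φ r, c.mem_img.2 hr, ?_⟩
    have := congrArg c.ψ e'
    rw [map_mul, map_mul, map_add, map_one, ← φ_val, ← φ_val, ← φ_val, map_mul, map_mul, map_inv] at this
    exact this

end Chart

/-- Two anticommuting involutions of isometries in block coordinates. -/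
theorem exists_chart [Nonempty ι] {J : Matrix ι ι E} (hA : (Matrix.toBilin' J).IsAlt)
    (hN : (Matrix.toBilin' J).Nondegenerate) (h2 : (2 : E) ≠ 0) {x y : GL ι E} (hx : x ∈ Iso J) (hy : y ∈ Iso J)
    (x2 : x * x = 1) (y2 : y * y = 1) (hxy : x * y = -(y * x)) :
    ∃ (m : ℕ) (c : Chart J (Matrix.fromBlocks (Matrix.J (Fin m) E) 0 0 (Matrix.J (Fin m) E))),
      4 * m = Fintype.card ι ∧ c.φ x = dg (1 : GL (Fin m ⊕ Fin m) E) (-1) ∧ c.φ y = sw := by
  classical
  obtain ⟨B, hBdef⟩ : ∃ B, B = Matrix.toBilin' J := ⟨_, rfl⟩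
  rw [← hBdef] at hA hN
  obtain ⟨X, hX⟩ : ∃ X, X = Matrix.toLin' (x : Matrix ι ι E) := ⟨_, rfl⟩
  obtain ⟨Y, hY⟩ : ∃ Y, Y = Matrix.toLin' (y : Matrix ι ι E) := ⟨_, rfl⟩
  have hXX : ∀ v, X (X v) = v := fun v => by
    rw [hX, ← LinearMap.comp_apply, ← Matrix.toLin'_mul, ← Units.val_mul, x2, Units.val_one, Matrix.toLin'_one,
      LinearMap.id_apply]
  have hYY : ∀ v, Y (Y v) = v := fun v => by
    rw [hY, ← LinearMap.comp_apply, ← Matrix.toLin'_mul, ← Units.val_mul, y2, Units.val_one, Matrix.toLin'_one,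
      LinearMap.id_apply]
  have hXY : ∀ v, X (Y v) = -Y (X v) := fun v => by
    rw [hX, hY, ← LinearMap.comp_apply, ← Matrix.toLin'_mul, ← LinearMap.comp_apply, ← Matrix.toLin'_mul,
      ← Units.val_mul, hxy, Units.val_neg, Units.val_mul, map_neg, LinearMap.neg_apply]
  have hcomp : ∀ g : GL ι E, g ∈ Iso J ↔
      B.comp (Matrix.toLin' (g : Matrix ι ι E)) (Matrix.toLin' (g : Matrix ι ι E)) = B := fun g => by
    rw [mem_iso, hBdef, Matrix.toBilin'_comp]
    exact ((Matrix.toBilin' : _ ≃ₗ[E] LinearMap.BilinForm E (ι → E)).injective.eq_iff).symm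
  have hBX : ∀ u v, B (X u) (X v) = B u v := fun u v => by
    have := LinearMap.congr_fun₂ ((hcomp x).1 hx) u v
    rw [hX]; exact this
  have hBY : ∀ u v, B (Y u) (Y v) = B u v := fun u v => by
    have := LinearMap.congr_fun₂ ((hcomp y).1 hy) u v
    rw [hY]; exact this
  have half : ∀ a : E, a = -a → a = 0 := fun a e =>
    (mul_eq_zero.1 (show (2 : E) * a = 0 by linear_combination e)).resolve_left h2
  obtain ⟨W, hW⟩ : ∃ W : Submodule E (ι → E), ∀ v, v ∈ W ↔ X v = v :=
    ⟨LinearMap.eqLocus X LinearMap.id, fun v => Iff.rfl⟩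
  have hnd : Alt.NDon B W := by
    intro w hw hw0
    obtain ⟨z, hz⟩ : ∃ z, B w z ≠ 0 := by
      by_contra hc
      push Not at hc
      exact hw0 (hN.1 w hc)
    refine ⟨z + X z, (hW _).2 (by rw [map_add, hXX, add_comm]), ?_⟩
    have e : B w (X z) = B w z := by
      conv_lhs => rw [← (hW w).1 hw]
      exact hBX w z
    rw [map_add, e, ← two_mul]
    exact mul_ne_zero h2 hz
  obtain ⟨m, e, f, hb, -⟩ := Alt.exists_sympBasis hA W hnd
  obtain ⟨w, hw⟩ : ∃ w : Fin m ⊕ Fin m → ι → E, w = Sum.elim f e := ⟨_, rfl⟩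
  have hwW : ∀ k, X (w k) = w k := fun k => (hW _).1 (by
    rw [hw]; rcases k with i | i; exacts [hb.mem_f i, hb.mem_e i])
  have hwJ : ∀ k l, B (w k) (w l) = Matrix.J (Fin m) E k l := by
    intro k l
    rw [hw]
    rcases k with i | i <;> rcases l with j | j <;>
      simp [Matrix.J, hb.ee, hb.ff, hb.ef, Alt.neg' hA (e _) (f _), Matrix.one_apply, eq_comm]
  have hwY : ∀ k l, B (w k) (Y (w l)) = 0 := fun k l => half _ (by
    conv_lhs => rw [← hBX, hwW, hXY, hwW, map_neg])
  obtain ⟨v, hv⟩ : ∃ v : (Fin m ⊕ Fin m) ⊕ (Fin m ⊕ Fin m) → ι → E, v = Sum.elim w (fun k => Y (w k)) := ⟨_, rfl⟩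
  have hwli : LinearIndependent E w := by
    have := (hb.linearIndependent hA).comp (Equiv.sumComm (Fin m) (Fin m)) (Equiv.injective _)
    have e' : w = Sum.elim e f ∘ Equiv.sumComm (Fin m) (Fin m) := by
      rw [hw]; ext (i | i) <;> rfl
    rwa [e']
  have hvli : LinearIndependent E v := by
    rw [Fintype.linearIndependent_iff]
    intro g hg
    simp only [hv, Fintype.sum_sum_type, Sum.elim_inl, Sum.elim_inr] at hg
    rw [← Fintype.sum_sum_type (fun k => g (Sum.inl k) • w k),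
      ← Fintype.sum_sum_type (fun k => g (Sum.inr k) • Y (w k))] at hg
    have hg' := congrArg X hg
    simp only [map_add, map_sum, map_smul, map_zero, hwW, hXY, smul_neg, Finset.sum_neg_distrib] at hg'
    have ea : ∑ k, g (Sum.inl k) • w k = 0 := by
      refine (smul_eq_zero.1 (show (2 : E) • ∑ k, g (Sum.inl k) • w k = 0 from ?_)).resolve_left h2
      rw [two_smul]
      calc _ = (∑ k, g (Sum.inl k) • w k + ∑ k, g (Sum.inr k) • Y (w k)) +
            (∑ k, g (Sum.inl k) • w k + -∑ k, g (Sum.inr k) • Y (w k)) := by abel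
        _ = 0 := by rw [hg, hg', add_zero]
    rw [ea, zero_add] at hg
    have eb : ∑ k, g (Sum.inr k) • w k = 0 := by
      have := congrArg Y hg
      simpa only [map_sum, map_smul, hYY, map_zero] using this
    rintro (k | k)
    · exact Fintype.linearIndependent_iff.1 hwli _ ea k
    · exact Fintype.linearIndependent_iff.1 hwli _ eb k
  have hspanW : W ≤ Submodule.span E (Set.range w) := by
    refine hb.span.trans (Submodule.span_mono ?_)
    rintro _ ⟨i | i, rfl⟩
    · exact ⟨Sum.inr i, by rw [hw]; rfl⟩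
    · exact ⟨Sum.inl i, by rw [hw]; rfl⟩
  have hspan : ⊤ ≤ Submodule.span E (Set.range v) := by
    intro z _
    have h1 : ∀ u ∈ W, u ∈ Submodule.span E (Set.range v) := fun u hu =>
      Submodule.span_mono (s := Set.range w) (by rintro _ ⟨k, rfl⟩; exact ⟨Sum.inl k, by rw [hv]; rfl⟩) (hspanW hu)
    have h3 : ∀ u ∈ W, Y u ∈ Submodule.span E (Set.range v) := fun u hu => by
      have := Submodule.mem_map_of_mem (f := Y) (hspanW hu)
      rw [Submodule.map_span] at this
      exact Submodule.span_mono (s := Y '' Set.range w) (by rintro _ ⟨_, ⟨k, rfl⟩, rfl⟩; exact ⟨Sum.inr k, by rw [hv]; rfl⟩) this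
    have e : z = (2 : E)⁻¹ • ((z + X z) + Y (Y (z - X z))) := by
      rw [hYY, show z + X z + (z - X z) = (2 : E) • z by rw [two_smul]; abel, smul_smul, inv_mul_cancel₀ h2, one_smul]
    rw [e]
    refine Submodule.smul_mem _ _ (add_mem (h1 _ ((hW _).2 (by rw [map_add, hXX, add_comm]))) (h3 _ ((hW _).2 ?_)))
    rw [hXY, map_sub, hXX, ← map_neg, neg_sub]
  obtain ⟨b, hbv⟩ : ∃ b : Basis ((Fin m ⊕ Fin m) ⊕ (Fin m ⊕ Fin m)) E (ι → E), ∀ k, b k = v k :=
    ⟨Basis.mk hvli hspan, fun k => Basis.mk_apply hvli hspan k⟩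
  have hgram : LinearMap.BilinForm.toMatrix b B =
      Matrix.fromBlocks (Matrix.J (Fin m) E) 0 0 (Matrix.J (Fin m) E) := by
    ext k l
    rw [LinearMap.BilinForm.toMatrix_apply, hbv, hbv, hv]
    rcases k with k | k <;> rcases l with l | l
    · simp [hwJ]
    · simp [hwY]
    · simp [Alt.neg' hA (w l) (Y (w k)), hwY]
    · simp [hBY, hwJ]
  have hcard := Module.finrank_eq_card_basis b
  rw [Module.finrank_fintype_fun_eq_card] at hcard
  simp only [Fintype.card_sum, Fintype.card_fin] at hcard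
  obtain ⟨ψ, hψ⟩ : ∃ ψ : Matrix ι ι E ≃ₐ[E] Matrix ((Fin m ⊕ Fin m) ⊕ (Fin m ⊕ Fin m))
      ((Fin m ⊕ Fin m) ⊕ (Fin m ⊕ Fin m)) E, ∀ M, ψ M = LinearMap.toMatrix b b (Matrix.toLin' M) :=
    ⟨(Matrix.toLinAlgEquiv' : Matrix ι ι E ≃ₐ[E] _).trans (LinearMap.toMatrixAlgEquiv b), fun M => rfl⟩
  refine ⟨m, ⟨ψ, fun g => ?_, by simp only [Fintype.card_sum, Fintype.card_fin]; omega⟩, by omega, ?_, ?_⟩
  · rw [mem_iso, hcomp, ← (LinearMap.BilinForm.toMatrix b).injective.eq_iff, LinearMap.BilinForm.toMatrix_comp b b,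
      hgram, ← hψ]
    rfl
  · refine Units.ext ?_
    rw [Chart.φ_val, hψ, dg_val]
    ext k l
    rw [LinearMap.toMatrix_apply, hbv, hv, ← hX]
    rcases l with l | l
    · rw [Sum.elim_inl, hwW, ← show b (Sum.inl l) = w l by rw [hbv, hv]; rfl, Basis.repr_self]
      rcases k with k | k <;> simp [Finsupp.single_apply, Matrix.one_apply, eq_comm]
    · rw [Sum.elim_inr, hXY, hwW, ← show b (Sum.inr l) = Y (w l) by rw [hbv, hv]; rfl, map_neg, Basis.repr_self]
      rcases k with k | k <;> simp [Finsupp.single_apply, Matrix.one_apply, eq_comm, apply_ite]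
  · refine Units.ext ?_
    rw [Chart.φ_val, hψ]
    show _ = Matrix.fromBlocks 0 1 1 0
    ext k l
    rw [LinearMap.toMatrix_apply, hbv, hv, ← hY]
    rcases l with l | l
    · rw [Sum.elim_inl, ← show b (Sum.inr l) = Y (w l) by rw [hbv, hv]; rfl, Basis.repr_self]
      rcases k with k | k <;> simp [Finsupp.single_apply, Matrix.one_apply, eq_comm]
    · rw [Sum.elim_inr, hYY, ← show b (Sum.inl l) = w l by rw [hbv, hv]; rfl, Basis.repr_self]
      rcases k with k | k <;> simp [Finsupp.single_apply, Matrix.one_apply, eq_comm]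

theorem mem_iso_spGL {F : Type*} [Field F] {m : ℕ} {g : GL (Fin m ⊕ Fin m) F} :
    g ∈ Iso (Matrix.J (Fin m) F) ↔ g ∈ Cfsg.spGL m F := by
  rw [mem_iso, ← SymplecticGroup.mem_iff', mem_symplectic_iff, ← glEquiv_mem_iso_iff]
  exact Iff.rfl

/-- Normal subgroups of symplectic groups. -/
theorem simple_symp {F : Type*} [Field F] [Finite F] {m : ℕ} (hm : 2 ≤ m) (h2 : (2 : F) ≠ 0) :
    Simple (Matrix.J (Fin m) F) := by
  intro L hLJ hconj hnc
  haveI : Nonempty (Fin m) := ⟨⟨0, by omega⟩⟩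
  have hA := sympB_isAlt (F := F) (m := m)
  have hN := sympB_nondeg (F := F) (m := m)
  have hperf := Alt.commutator_isoGroup hA hN (Or.inr (Or.inl ⟨h2, by
    rw [Module.finrank_fintype_fun_eq_card, Fintype.card_sum, Fintype.card_fin]; omega⟩))
  haveI := Alt.isSimpleGroup_quot_center hA hN hperf
  have hiff : ∀ g : GL (Fin m ⊕ Fin m) F, glEquiv (Fin m ⊕ Fin m) F g ∈ Alt.isoGroup (sympB m F) ↔
      g ∈ Iso (Matrix.J (Fin m) F) := fun g => by rw [glEquiv_mem_iso_iff, mem_iso_spGL]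
  obtain ⟨N, hN'⟩ : ∃ N : Subgroup (Alt.isoGroup (sympB m F)), ∀ n, n ∈ N ↔ (glEquiv (Fin m ⊕ Fin m) F).symm n.1 ∈ L :=
    ⟨(L.comap (glEquiv (Fin m ⊕ Fin m) F).symm.toMonoidHom).comap (Alt.isoGroup (sympB m F)).subtype,
      fun n => Iff.rfl⟩
  haveI hnor : N.Normal := ⟨fun n hn g => by
    rw [hN'] at hn ⊢
    have := hconj _ ((hiff _).1 (by rw [MulEquiv.apply_symm_apply]; exact g.2)) _ hn
    simpa [map_mul, map_inv] using this⟩
  obtain ⟨π, hπ⟩ : ∃ π, π = QuotientGroup.mk' (Subgroup.center (Alt.isoGroup (sympB m F))) := ⟨_, rfl⟩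
  haveI : (N.map π).Normal := hnor.map π (hπ ▸ QuotientGroup.mk'_surjective _)
  rcases IsSimpleGroup.eq_bot_or_eq_top_of_normal (N.map π) inferInstance with e | e
  · exfalso
    obtain ⟨l, hl, hl1⟩ := hnc
    have hlI := (hiff l).2 (hLJ hl)
    have hc : π ⟨_, hlI⟩ = 1 := by
      have hmem : π ⟨_, hlI⟩ ∈ N.map π :=
        Subgroup.mem_map_of_mem π ((hN' _).2 (by rw [MulEquiv.symm_apply_apply]; exact hl))
      rwa [e, Subgroup.mem_bot] at hmem
    rw [hπ, QuotientGroup.mk'_apply, QuotientGroup.eq_one_iff] at hc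
    obtain ⟨a, ha⟩ := Alt.scalar_of_center hA hN hc
    have ha' : ∀ v, (l : Matrix (Fin m ⊕ Fin m) (Fin m ⊕ Fin m) F) *ᵥ v = a • v := fun v => ha v
    obtain ⟨u, hu⟩ := exists_ne (0 : Fin m ⊕ Fin m → F)
    obtain ⟨v, -, huv⟩ := Alt.exists_partner hA (Alt.ndon_top hN) (u := u) trivial hu
    have h1 := hlI u v
    rw [show glEquiv (Fin m ⊕ Fin m) F l u = a • u from ha u, show glEquiv (Fin m ⊕ Fin m) F l v = a • v from ha v]
      at h1
    simp only [map_smul, LinearMap.smul_apply, smul_eq_mul, huv, mul_one] at h1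
    have hmat : (l : Matrix (Fin m ⊕ Fin m) (Fin m ⊕ Fin m) F) = a • 1 :=
      Matrix.toLin'.injective (LinearMap.ext fun v => by simp [ha'])
    rcases mul_self_eq_one_iff.1 h1 with rfl | rfl
    · exact hl1.1 (Units.ext (by rw [hmat]; simp))
    · exact hl1.2 (Units.ext (by rw [hmat]; simp))
  · have htop : N = ⊤ := by
      rw [eq_top_iff, ← hperf, commutator_def, Subgroup.commutator_le]
      intro x _ y _
      have split : ∀ x : Alt.isoGroup (sympB m F), ∃ z ∈ Subgroup.center (Alt.isoGroup (sympB m F)),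
          (QuotientGroup.mk' N x) = QuotientGroup.mk' N z := fun x => by
        obtain ⟨n, hn, hnx⟩ : π x ∈ N.map π := e ▸ Subgroup.mem_top _
        rw [hπ, QuotientGroup.mk'_eq_mk'] at hnx
        obtain ⟨z, hz, rfl⟩ := hnx
        exact ⟨z, hz, by rw [map_mul, QuotientGroup.mk'_apply N n, (QuotientGroup.eq_one_iff n).2 hn, one_mul]⟩
      obtain ⟨z, hz, ez⟩ := split x
      obtain ⟨z', -, ez'⟩ := split y
      rw [← QuotientGroup.eq_one_iff, ← QuotientGroup.mk'_apply, map_commutatorElement, ez, ez',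
        ← map_commutatorElement, commutatorElement_eq_one_iff_mul_comm.2 (Subgroup.mem_center_iff.1 hz z').symm, map_one]
    intro g hg
    have := (hN' ⟨_, (hiff g).2 hg⟩).1 (htop ▸ Subgroup.mem_top _)
    rwa [MulEquiv.symm_apply_apply] at this

end Cfsg.Agent.ClassicalMax.SympMinus
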