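import Cfsg.Agent.ClassicalMax.SympType.Pauli

/-!
Extraspecial two-groups of matrices, irreducible and with centre of order two: commutation signs, hyperbolic pairs,
elements of square minus one and involutions orthogonal to given pairs.
-/

set_option autoImplicit false
set_option linter.unusedSectionVars false

namespace Cfsg.Agent.ClassicalMax.SympMinus

open Matrix SympType

variable {ι : Type*} [Fintype ι] [DecidableEq ι] {E : Type*} [Field E]

/-- An irreducible extraspecial two-group of the smallest order possible in the dimension. -/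
structure SR (R : Subgroup (GL ι E)) : Prop where
  two : (2 : E) ≠ 0
  neg : (-1 : GL ι E) ∈ R
  comm : ∀ x ∈ R, ∀ y ∈ R, x * y = y * x ∨ x * y = -(y * x)
  sq : ∀ x ∈ R, x * x = 1 ∨ x * x = -1
  pm : ∀ x ∈ R, (∀ y ∈ R, x * y = y * x) → x = 1 ∨ x = -1
  irr : ∀ N : Matrix ι ι E, (∀ x ∈ R, N * (x : Matrix ι ι E) = x * N) → ∃ c : E, N = c • 1
  card : Nat.card R = 2 * (Fintype.card ι * Fintype.card ι)

/-- No large elementary abelian subgroups. -/
def Minus (R : Subgroup (GL ι E)) : Prop :=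
  ∀ A : Subgroup (GL ι E), A ≤ R → (∀ a ∈ A, ∀ b ∈ A, a * b = b * a) → (∀ a ∈ A, a * a = 1) →
    Nat.card A < 2 * Fintype.card ι

/-- Not plus or minus one. -/
def NC (x : GL ι E) : Prop := x ≠ 1 ∧ x ≠ -1

/-- Normalises. -/
def Nm (R : Subgroup (GL ι E)) (g : GL ι E) : Prop := ∀ r ∈ R, g * r * g⁻¹ ∈ R

/-- A hyperbolic pair. -/
structure Pair (R : Subgroup (GL ι E)) (a b : GL ι E) : Prop where
  ha : a ∈ R
  hb : b ∈ R
  anti : sg a b = -1

theorem Nm.mul {R : Subgroup (GL ι E)} {g k : GL ι E} (hg : Nm R g) (hk : Nm R k) : Nm R (g * k) := fun r hr => by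
  rw [show g * k * r * (g * k)⁻¹ = g * (k * r * k⁻¹) * g⁻¹ by group]
  exact hg _ (hk r hr)

theorem nm_of_mem {R : Subgroup (GL ι E)} {g : GL ι E} (hg : g ∈ R) : Nm R g := fun _ hr =>
  mul_mem (mul_mem hg hr) (inv_mem hg)

namespace SR

variable {R : Subgroup (GL ι E)} (h : SR R)
include h

theorem neg_mem {x : GL ι E} (hx : x ∈ R) : -x ∈ R := by rw [← neg_one_mul]; exact mul_mem h.neg hx

theorem pos : 0 < Fintype.card ι ∨ ¬ Finite R := by
  by_cases hf : Finite R
  · left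
    rcases Nat.eq_zero_or_pos (Fintype.card ι) with e | e
    · have hc := h.card
      rw [e] at hc
      exact absurd hc (by simpa using Nat.card_pos.ne')
    · exact e
  · exact Or.inr hf

variable [Finite E]

theorem nonempty : Nonempty ι :=
  Fintype.card_pos_iff.1 (h.pos.resolve_right (not_not.2 inferInstance))

theorem ne_neg (x : GL ι E) : x ≠ -x := fun e => by
  haveI := h.nonempty
  have e1 : (2 : E) • (x : Matrix ι ι E) = 0 := by
    rw [two_smul]
    nth_rw 2 [e]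
    rw [Units.val_neg, add_neg_cancel]
  exact x.ne_zero ((smul_eq_zero.1 e1).resolve_left h.two)

theorem one_ne_neg_one : (1 : GL ι E) ≠ -1 := h.ne_neg 1

theorem not_comm_of_anti {x y : GL ι E} (e : x * y = -(y * x)) : x * y ≠ y * x := fun e' =>
  h.ne_neg (y * x) (e'.symm.trans e)

theorem sg_neg_iff {x y : GL ι E} (hx : x ∈ R) (hy : y ∈ R) : sg x y = -1 ↔ x * y = -(y * x) := by
  rw [sg_ne_iff]
  exact ⟨(h.comm x hx y hy).resolve_left, h.not_comm_of_anti⟩

theorem sg_mul {x x' y : GL ι E} (hx : x ∈ R) (hx' : x' ∈ R) (hy : y ∈ R) :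
    sg (x * x') y = sg x y * sg x' y := by
  rcases h.comm x hx y hy with e | e <;> rcases h.comm x' hx' y hy with e' | e'
  · have : x * x' * y = y * (x * x') := by rw [mul_assoc, e', ← mul_assoc, e, mul_assoc]
    simp [sg_eq_one_iff.2 e, sg_eq_one_iff.2 e', sg_eq_one_iff.2 this]
  · have : x * x' * y = -(y * (x * x')) := by rw [mul_assoc, e', mul_neg, ← mul_assoc, e, mul_assoc]
    simp [sg_eq_one_iff.2 e, sg_ne_iff.2 (h.not_comm_of_anti e'), sg_ne_iff.2 (h.not_comm_of_anti this)]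
  · have : x * x' * y = -(y * (x * x')) := by rw [mul_assoc, e', ← mul_assoc, e, neg_mul, mul_assoc]
    simp [sg_ne_iff.2 (h.not_comm_of_anti e), sg_eq_one_iff.2 e', sg_ne_iff.2 (h.not_comm_of_anti this)]
  · have : x * x' * y = y * (x * x') := by rw [mul_assoc, e', mul_neg, ← mul_assoc, e, neg_mul, neg_neg, mul_assoc]
    simp [sg_ne_iff.2 (h.not_comm_of_anti e), sg_ne_iff.2 (h.not_comm_of_anti e'), sg_eq_one_iff.2 this]

theorem sg_mul_right {x x' y : GL ι E} (hx : x ∈ R) (hx' : x' ∈ R) (hy : y ∈ R) :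
    sg y (x * x') = sg y x * sg y x' := by
  rw [sg_comm, h.sg_mul hx hx' hy, sg_comm x, sg_comm x']

theorem sg_cases (x y : GL ι E) : sg x y = 1 ∨ sg x y = -1 := by unfold sg; split_ifs <;> simp

theorem sq_sign {x : GL ι E} (hx : x ∈ R) : x * x = 1 ∨ x * x = -1 := h.sq x hx

theorem mul_sq_comm {x y : GL ι E} (e : sg x y = 1) : x * y * (x * y) = x * x * (y * y) := by
  rw [mul_assoc x y, ← mul_assoc y x y, ← sg_eq_one_iff.1 e]
  simp only [mul_assoc]

theorem mul_sq_anti {x y : GL ι E} (hx : x ∈ R) (hy : y ∈ R) (e : sg x y = -1) :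
    x * y * (x * y) = -(x * x * (y * y)) := by
  rw [mul_assoc x y, ← mul_assoc y x y,
    show y * x = -(x * y) by rw [(h.sg_neg_iff hx hy).1 e, neg_neg], neg_mul, mul_neg]
  simp only [mul_assoc]

/-- One of three is of square minus one. -/
theorem tri_neg {p q : GL ι E} (P : Pair R p q) : p * p = -1 ∨ q * q = -1 ∨ p * q * (p * q) = -1 := by
  rcases h.sq p P.ha with e | e
  · rcases h.sq q P.hb with e' | e'
    · exact Or.inr (Or.inr (by rw [h.mul_sq_anti P.ha P.hb P.anti, e, e', one_mul]))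
    · exact Or.inr (Or.inl e')
  · exact Or.inl e

theorem nc_of_sg {x y : GL ι E} (e : sg x y = -1) : NC x := by
  constructor
  · rintro rfl; simp [sg] at e
  · rintro rfl; simp [sg] at e

theorem exists_anti {x : GL ι E} (hx : x ∈ R) (hn : NC x) : ∃ y ∈ R, sg x y = -1 := by
  by_contra hc
  push Not at hc
  rcases h.pm x hx fun y hy => sg_eq_one_iff.1 ((h.sg_cases x y).resolve_right (hc y hy)) with e | e
  · exact hn.1 e
  · exact hn.2 e

theorem pair_nc {a b : GL ι E} (P : Pair R a b) : NC a ∧ NC b ∧ NC (a * b) := by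
  refine ⟨h.nc_of_sg P.anti, h.nc_of_sg (show sg b a = -1 by rw [sg_comm, P.anti]), h.nc_of_sg (y := a) ?_⟩
  rw [h.sg_mul P.ha P.hb P.ha, sg_self, sg_comm b, P.anti, one_mul]

/-- An element commuting with the first and not with the second. -/
theorem sep {a d : GL ι E} (ha : a ∈ R) (hd : d ∈ R) (hd1 : NC d) (had : NC (a * d)) :
    ∃ c ∈ R, sg c a = 1 ∧ sg c d = -1 := by
  by_contra hc
  push Not at hc
  have hc' : ∀ c ∈ R, sg c a = 1 → sg c d = 1 := fun c hcR e => (h.sg_cases c d).resolve_right (hc c hcR e)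
  obtain ⟨r, hr, hrd⟩ := h.exists_anti hd hd1
  rw [sg_comm] at hrd
  have hra : sg r a = -1 := (h.sg_cases r a).resolve_left fun e => by simp [hc' r hr e] at hrd
  obtain ⟨s, hs, hsad⟩ := h.exists_anti (mul_mem ha hd) had
  rw [sg_comm, h.sg_mul_right ha hd hs] at hsad
  rcases h.sg_cases s a with e | e
  · rw [e, hc' s hs e] at hsad; norm_num at hsad
  · have h1 : sg (s * r) a = 1 := by rw [h.sg_mul hs hr ha, e, hra]; norm_num
    have h2 := hc' _ (mul_mem hs hr) h1
    rw [h.sg_mul hs hr hd, hrd] at h2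
    rw [e, show sg s d = -1 by linarith] at hsad
    norm_num at hsad

/-- Projection to the elements commuting with a pair. -/
theorem proj {a b : GL ι E} (P : Pair R a b) {r : GL ι E} (hr : r ∈ R) :
    ∃ i ∈ ({1, a, b, a * b} : Set (GL ι E)), sg (r * i) a = 1 ∧ sg (r * i) b = 1 := by
  have hba : sg b a = -1 := by rw [sg_comm, P.anti]
  have hab := mul_mem P.ha P.hb
  rcases h.sg_cases r a with e | e <;> rcases h.sg_cases r b with e' | e'
  · exact ⟨1, by simp, by rw [mul_one, e], by rw [mul_one, e']⟩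
  · exact ⟨a, by simp, by rw [h.sg_mul hr P.ha P.ha, e, sg_self, one_mul],
      by rw [h.sg_mul hr P.ha P.hb, e', P.anti]; norm_num⟩
  · exact ⟨b, by simp, by rw [h.sg_mul hr P.hb P.ha, e, hba]; norm_num,
      by rw [h.sg_mul hr P.hb P.hb, e', sg_self, one_mul]⟩
  · refine ⟨a * b, by simp, ?_, ?_⟩
    · rw [h.sg_mul hr hab P.ha, h.sg_mul P.ha P.hb P.ha, e, sg_self, hba]; norm_num
    · rw [h.sg_mul hr hab P.hb, h.sg_mul P.ha P.hb P.hb, e', sg_self, P.anti]; norm_num

theorem four_mem {a b i : GL ι E} (P : Pair R a b) (hi : i ∈ ({1, a, b, a * b} : Set (GL ι E))) : i ∈ R := by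
  rcases hi with rfl | rfl | rfl | rfl
  exacts [one_mem R, P.ha, P.hb, mul_mem P.ha P.hb]

theorem four_sg {a b i z : GL ι E} (P : Pair R a b) (hz : z ∈ R) (hza : sg z a = 1) (hzb : sg z b = 1)
    (hi : i ∈ ({1, a, b, a * b} : Set (GL ι E))) : sg z i = 1 := by
  rcases hi with rfl | rfl | rfl | rfl
  · simp [sg]
  · exact hza
  · exact hzb
  · rw [h.sg_mul_right P.ha P.hb hz, hza, hzb, one_mul]

/-- A pair orthogonal to a pair. -/
theorem exists_pair_perp {a b : GL ι E} (P : Pair R a b) (hn : 4 ≤ Fintype.card ι) :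
    ∃ p q, Pair R p q ∧ sg p a = 1 ∧ sg p b = 1 ∧ sg q a = 1 ∧ sg q b = 1 := by
  classical
  obtain ⟨p, hp, hpa, hpb, hp1⟩ : ∃ p ∈ R, sg p a = 1 ∧ sg p b = 1 ∧ NC p := by
    by_contra hc
    push Not at hc
    have hsub : (R : Set (GL ι E)) ⊆ ({1, a, b, a * b} : Set (GL ι E)).image (fun i => i⁻¹) ∪
        ({1, a, b, a * b} : Set (GL ι E)).image (fun i => -i⁻¹) := by
      intro r hr
      obtain ⟨i, hi, e1, e2⟩ := h.proj P hr
      have := hc _ (mul_mem hr (h.four_mem P hi)) e1 e2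
      simp only [NC, not_and_or, not_not] at this
      rcases this with e | e
      · exact Or.inl ⟨i, hi, (eq_inv_of_mul_eq_one_left e).symm⟩
      · refine Or.inr ⟨i, hi, ?_⟩
        show -i⁻¹ = r
        rw [eq_mul_inv_of_mul_eq e, neg_one_mul]
    have h1 := (Set.ncard_le_ncard hsub (Set.toFinite _)).trans (Set.ncard_union_le _ _)
    have h2 : ({1, a, b, a * b} : Set (GL ι E)).ncard ≤ 4 := by
      refine (Set.ncard_insert_le _ _).trans (Nat.succ_le_succ ?_)
      refine (Set.ncard_insert_le _ _).trans (Nat.succ_le_succ ?_)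
      refine (Set.ncard_insert_le _ _).trans (by rw [Set.ncard_singleton])
    have h3 := h1.trans (Nat.add_le_add ((Set.ncard_image_le (Set.toFinite _)).trans h2)
      ((Set.ncard_image_le (Set.toFinite _)).trans h2))
    rw [← Nat.card_coe_set_eq] at h3
    change Nat.card R ≤ 4 + 4 at h3
    rw [h.card] at h3
    nlinarith
  obtain ⟨q₀, hq₀, hpq⟩ := h.exists_anti hp hp1
  obtain ⟨i, hi, e1, e2⟩ := h.proj P hq₀
  have hiR := h.four_mem P hi
  refine ⟨p, q₀ * i, ⟨hp, mul_mem hq₀ hiR, ?_⟩, hpa, hpb, e1, e2⟩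
  rw [h.sg_mul_right hq₀ hiR hp, hpq, h.four_sg P hp hpa hpb hi, mul_one]

/-- A pair orthogonal to two orthogonal pairs. -/
theorem exists_pair_perp₂ {a b c d : GL ι E} (P : Pair R a b) (Q : Pair R c d) (hca : sg c a = 1) (hcb : sg c b = 1)
    (hda : sg d a = 1) (hdb : sg d b = 1) (hn : 4 < Fintype.card ι) :
    ∃ p q, Pair R p q ∧ sg p a = 1 ∧ sg p b = 1 ∧ sg q a = 1 ∧ sg q b = 1 ∧
      sg p c = 1 ∧ sg p d = 1 ∧ sg q c = 1 ∧ sg q d = 1 := by
  classical
  have hproj : ∀ r ∈ R, ∃ i ∈ ({1, a, b, a * b} : Set (GL ι E)), ∃ j ∈ ({1, c, d, c * d} : Set (GL ι E)),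
      sg (r * i * j) a = 1 ∧ sg (r * i * j) b = 1 ∧ sg (r * i * j) c = 1 ∧ sg (r * i * j) d = 1 := by
    intro r hr
    obtain ⟨i, hi, e1, e2⟩ := h.proj P hr
    have hiR := h.four_mem P hi
    obtain ⟨j, hj, e3, e4⟩ := h.proj Q (mul_mem hr hiR)
    have hjR := h.four_mem Q hj
    have ja : sg j a = 1 := by
      rw [sg_comm]; exact h.four_sg Q P.ha (by rw [sg_comm, hca]) (by rw [sg_comm, hda]) hj
    have jb : sg j b = 1 := by
      rw [sg_comm]; exact h.four_sg Q P.hb (by rw [sg_comm, hcb]) (by rw [sg_comm, hdb]) hj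
    exact ⟨i, hi, j, hj, by rw [h.sg_mul (mul_mem hr hiR) hjR P.ha, e1, ja, one_mul],
      by rw [h.sg_mul (mul_mem hr hiR) hjR P.hb, e2, jb, one_mul], e3, e4⟩
  obtain ⟨p, hp, hpa, hpb, hpc, hpd, hp1⟩ :
      ∃ p ∈ R, sg p a = 1 ∧ sg p b = 1 ∧ sg p c = 1 ∧ sg p d = 1 ∧ NC p := by
    by_contra hc
    push Not at hc
    obtain ⟨S, hS⟩ : ∃ S : Set (GL ι E), S = Set.image2 (fun i j => (i * j)⁻¹)
        ({1, a, b, a * b} : Set (GL ι E)) ({1, c, d, c * d} : Set (GL ι E)) := ⟨_, rfl⟩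
    have hsub : (R : Set (GL ι E)) ⊆ S ∪ S.image (fun i => -i) := by
      intro r hr
      obtain ⟨i, hi, j, hj, e1, e2, e3, e4⟩ := hproj r hr
      have := hc _ (mul_mem (mul_mem hr (h.four_mem P hi)) (h.four_mem Q hj)) e1 e2 e3 e4
      simp only [NC, not_and_or, not_not] at this
      have hij : (i * j)⁻¹ ∈ S := hS ▸ ⟨i, hi, j, hj, rfl⟩
      rcases this with e | e <;> rw [mul_assoc] at e
      · exact Or.inl ((eq_inv_of_mul_eq_one_left e).symm ▸ hij)
      · refine Or.inr ⟨_, hij, ?_⟩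
        show -(i * j)⁻¹ = r
        rw [eq_mul_inv_of_mul_eq e, neg_one_mul]
    have four : ∀ u v : GL ι E, ({1, u, v, u * v} : Set (GL ι E)).ncard ≤ 4 := fun u v => by
      refine (Set.ncard_insert_le _ _).trans (Nat.succ_le_succ ?_)
      refine (Set.ncard_insert_le _ _).trans (Nat.succ_le_succ ?_)
      refine (Set.ncard_insert_le _ _).trans (by rw [Set.ncard_singleton])
    have hS16 : S.ncard ≤ 16 := by
      rw [hS, ← Set.image_uncurry_prod]
      refine (Set.ncard_image_le (Set.toFinite _)).trans ?_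
      rw [Set.ncard_prod]
      exact (Nat.mul_le_mul (four a b) (four c d)).trans le_rfl
    have h1 := ((Set.ncard_le_ncard hsub (Set.toFinite _)).trans (Set.ncard_union_le _ _)).trans
      (Nat.add_le_add hS16 ((Set.ncard_image_le (Set.toFinite _)).trans hS16))
    rw [← Nat.card_coe_set_eq] at h1
    change Nat.card R ≤ 16 + 16 at h1
    rw [h.card] at h1
    nlinarith
  obtain ⟨q₀, hq₀, hpq⟩ := h.exists_anti hp hp1
  obtain ⟨i, hi, j, hj, e1, e2, e3, e4⟩ := hproj q₀ hq₀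
  have hiR := h.four_mem P hi
  have hjR := h.four_mem Q hj
  refine ⟨p, q₀ * i * j, ⟨hp, mul_mem (mul_mem hq₀ hiR) hjR, ?_⟩, hpa, hpb, e1, e2, hpc, hpd, e3, e4⟩
  rw [h.sg_mul_right (mul_mem hq₀ hiR) hjR hp, h.sg_mul_right hq₀ hiR hp, hpq, h.four_sg P hp hpa hpb hi,
    h.four_sg Q hp hpc hpd hj]
  norm_num

/-- Two orthogonal pairs of square minus one cannot be everything for minus type. -/
theorem minus_big (hM : Minus R) {a b c d : GL ι E} (P : Pair R a b) (Q : Pair R c d) (hca : sg c a = 1)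
    (hcb : sg c b = 1) (hda : sg d a = 1) (hdb : sg d b = 1) (a2 : a * a = -1) (b2 : b * b = -1) (c2 : c * c = -1)
    (d2 : d * d = -1) : 4 < Fintype.card ι := by
  classical
  have hac : sg a c = 1 := by rw [sg_comm, hca]
  have hbd : sg b d = 1 := by rw [sg_comm, hdb]
  have sA : a * c * (a * c) = 1 := by rw [h.mul_sq_comm hac, a2, c2]; simp
  have sB : b * d * (b * d) = 1 := by rw [h.mul_sq_comm hbd, b2, d2]; simp
  have hA : a * c ∈ R := mul_mem P.ha Q.ha
  have hB : b * d ∈ R := mul_mem P.hb Q.hb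
  have hAB : a * c * (b * d) = b * d * (a * c) := by
    rw [← sg_eq_one_iff, h.sg_mul P.ha Q.ha hB, h.sg_mul_right P.hb Q.hb P.ha, h.sg_mul_right P.hb Q.hb Q.ha,
      P.anti, sg_comm a d, hda, hcb, Q.anti]
    norm_num
  obtain ⟨A, hAdef⟩ : ∃ A, A = Subgroup.closure ({a * c, b * d, -1} : Set (GL ι E)) := ⟨_, rfl⟩
  have hgen : ({a * c, b * d, -1} : Set (GL ι E)) ⊆ R :=
    Set.insert_subset hA (Set.insert_subset hB (Set.singleton_subset_iff.2 h.neg))
  have hcomm : ∀ x ∈ A, ∀ y ∈ A, x * y = y * x := by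
    have hc : IsMulCommutative A := by
      rw [hAdef]
      refine Subgroup.isMulCommutative_closure fun u hu v hv => ?_
      simp only [Set.mem_insert_iff, Set.mem_singleton_iff] at hu hv
      rcases hu with rfl | rfl | rfl <;> rcases hv with rfl | rfl | rfl <;>
        first | rfl | exact hAB | exact hAB.symm | simp
    intro x hx y hy
    exact congrArg Subtype.val (hc.is_comm.comm (⟨x, hx⟩ : A) ⟨y, hy⟩)
  have hsq : ∀ x ∈ A, x * x = 1 := by
    intro x hx
    rw [hAdef] at hx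
    induction hx using Subgroup.closure_induction with
    | mem u hu =>
      simp only [Set.mem_insert_iff, Set.mem_singleton_iff] at hu
      rcases hu with rfl | rfl | rfl
      exacts [sA, sB, by simp]
    | one => simp
    | mul u v hu hv iu iv =>
      rw [mul_assoc u v, ← mul_assoc v u v, hcomm v (hAdef ▸ hv) u (hAdef ▸ hu), mul_assoc u v v, iv, mul_one, iu]
    | inv u _ iu => rw [← _root_.mul_inv_rev, iu, inv_one]
  have hlt := hM A (hAdef ▸ (Subgroup.closure_le R).2 hgen) hcomm hsq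
  -- eight elements
  obtain ⟨f, hf⟩ : ∃ f : Bool × Bool × Bool → A, ∀ i j k, ((f (i, j, k)) : GL ι E) =
      (bif i then a * c else 1) * (bif j then b * d else 1) * (bif k then -1 else 1) :=
    ⟨fun t => ⟨(bif t.1 then a * c else 1) * (bif t.2.1 then b * d else 1) * (bif t.2.2 then -1 else 1), by
      have m : ∀ u ∈ ({a * c, b * d, -1} : Set (GL ι E)), u ∈ A := fun u hu => hAdef ▸ Subgroup.subset_closure hu
      refine mul_mem (mul_mem ?_ ?_) ?_
      · cases t.1
        exacts [one_mem A, m _ (by simp)]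
      · cases t.2.1
        exacts [one_mem A, m _ (by simp)]
      · cases t.2.2
        exacts [one_mem A, m _ (by simp)]⟩, fun _ _ _ => rfl⟩
  have hsgn : ∀ i j k, sg ((f (i, j, k)) : GL ι E) b = (bif i then -1 else 1) ∧
      sg ((f (i, j, k)) : GL ι E) a = (bif j then -1 else 1) := by
    intro i j k
    have t1 : ∀ z ∈ R, sg (1 : GL ι E) z = 1 ∧ sg (-1 : GL ι E) z = 1 := fun z _ => by simp [sg]
    have hX : (bif i then a * c else 1) ∈ R := by cases i; exacts [one_mem R, hA]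
    have hY : (bif j then b * d else 1) ∈ R := by cases j; exacts [one_mem R, hB]
    have hW : (bif k then (-1 : GL ι E) else 1) ∈ R := by cases k; exacts [one_mem R, h.neg]
    rw [hf, h.sg_mul (mul_mem hX hY) hW P.hb, h.sg_mul hX hY P.hb, h.sg_mul (mul_mem hX hY) hW P.ha,
      h.sg_mul hX hY P.ha]
    have u1 : sg (a * c) b = -1 := by rw [h.sg_mul P.ha Q.ha P.hb, P.anti, hcb]; norm_num
    have u2 : sg (b * d) b = 1 := by rw [h.sg_mul P.hb Q.hb P.hb, sg_self, hdb, one_mul]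
    have u3 : sg (a * c) a = 1 := by rw [h.sg_mul P.ha Q.ha P.ha, sg_self, hca, one_mul]
    have u4 : sg (b * d) a = -1 := by rw [h.sg_mul P.hb Q.hb P.ha, sg_comm b, P.anti, hda]; norm_num
    cases i <;> cases j <;> cases k <;> simp [u1, u2, u3, u4, t1 _ P.ha, t1 _ P.hb]
  have hinj : Function.Injective f := by
    rintro ⟨i, j, k⟩ ⟨i', j', k'⟩ e
    have e1 := (hsgn i j k).1
    have e2 := (hsgn i j k).2
    rw [e, (hsgn i' j' k').1] at e1
    rw [e, (hsgn i' j' k').2] at e2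
    have hi : i = i' := by cases i <;> cases i' <;> first | rfl | simp at e1
    have hj : j = j' := by cases j <;> cases j' <;> first | rfl | simp at e2
    subst hi hj
    have e3 := congrArg Subtype.val e
    rw [hf, hf] at e3
    have e4 := mul_left_cancel e3
    cases k <;> cases k' <;> simp only [cond_true, cond_false] at e4
    · rfl
    · exact absurd e4 h.one_ne_neg_one
    · exact absurd e4.symm h.one_ne_neg_one
    · rfl
  have := Nat.card_le_card_of_injective f hinj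
  simp only [Nat.card_eq_fintype_card (α := Bool × Bool × Bool), Fintype.card_prod, Fintype.card_bool] at this
  omega

/-- An involution orthogonal to a pair of square minus one. -/
theorem exists_invol_perp (hM : Minus R) {a d : GL ι E} (P : Pair R a d) (a2 : a * a = -1) (d2 : d * d = -1)
    (hn : 4 ≤ Fintype.card ι) : ∃ w ∈ R, NC w ∧ w * w = 1 ∧ sg w a = 1 ∧ sg w d = 1 := by
  obtain ⟨p, q, Q, pa, pd, qa, qd⟩ := h.exists_pair_perp P hn
  obtain ⟨np, nq, npq⟩ := h.pair_nc Q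
  rcases h.sq p Q.ha with p2 | p2
  · exact ⟨p, Q.ha, np, p2, pa, pd⟩
  rcases h.sq q Q.hb with q2 | q2
  · exact ⟨q, Q.hb, nq, q2, qa, qd⟩
  obtain ⟨u, v, U, ua, ud, va, vd, up, uq, -, -⟩ :=
    h.exists_pair_perp₂ P Q pa pd qa qd (h.minus_big hM P Q pa pd qa qd a2 d2 p2 q2)
  rcases h.sq u U.ha with u2 | u2
  · exact ⟨u, U.ha, (h.pair_nc U).1, u2, ua, ud⟩
  refine ⟨p * u, mul_mem Q.ha U.ha, h.nc_of_sg (y := q) ?_, ?_, ?_, ?_⟩
  · rw [h.sg_mul Q.ha U.ha Q.hb, Q.anti, uq, mul_one]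
  · rw [h.mul_sq_comm (by rw [sg_comm, up]), p2, u2]; simp
  · rw [h.sg_mul Q.ha U.ha P.ha, pa, ua, one_mul]
  · rw [h.sg_mul Q.ha U.ha P.hb, pd, ud, one_mul]

/-- A sign pattern trivial on the centre of a subgroup is realised in it. -/
theorem exists_match (C : Subgroup (GL ι E)) (hCR : C ≤ R) {g : GL ι E}
    (hg : ∀ x ∈ C, g * x = x * g ∨ g * x = -(x * g))
    (hz : ∀ x ∈ C, (∀ y ∈ C, sg y x = 1) → g * x = x * g) : ∃ s ∈ C, ∀ x ∈ C, sg g x = sg s x := by
  classical
  haveI : Fintype C := Fintype.ofFinite _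
  have na : ∀ {u v : GL ι E}, u * v = -(v * u) → u * v ≠ v * u := fun e => h.not_comm_of_anti e
  have hχ : ∀ x ∈ C, ∀ y ∈ C, sg g (x * y) = sg g x * sg g y := by
    intro x hx y hy
    rcases hg x hx with e | e <;> rcases hg y hy with e' | e'
    · have : g * (x * y) = x * y * g := by rw [← mul_assoc, e, mul_assoc, e', mul_assoc]
      simp [sg_eq_one_iff.2 e, sg_eq_one_iff.2 e', sg_eq_one_iff.2 this]
    · have : g * (x * y) = -(x * y * g) := by rw [← mul_assoc, e, mul_assoc, e', mul_neg, mul_assoc]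
      simp [sg_eq_one_iff.2 e, sg_ne_iff.2 (na e'), sg_ne_iff.2 (na this)]
    · have : g * (x * y) = -(x * y * g) := by rw [← mul_assoc, e, neg_mul, mul_assoc, e', mul_assoc]
      simp [sg_ne_iff.2 (na e), sg_eq_one_iff.2 e', sg_ne_iff.2 (na this)]
    · have : g * (x * y) = x * y * g := by rw [← mul_assoc, e, neg_mul, mul_assoc, e', mul_neg, neg_neg, mul_assoc]
      simp [sg_ne_iff.2 (na e), sg_ne_iff.2 (na e'), sg_eq_one_iff.2 this]
  have hs1 : ∀ {u v : GL ι E}, sg u v * sg u v = 1 := fun {u v} => by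
    rcases h.sg_cases u v with e | e <;> rw [e] <;> norm_num
  by_contra hc
  push Not at hc
  have hzero : ∀ s : C, ∑ x : C, sg g x.1 * sg s.1 x.1 = 0 := fun s => by
    obtain ⟨x₀, hx₀, hne⟩ := hc s s.2
    refine sum_sign _ (fun x y => ?_) (a₀ := ⟨x₀, hx₀⟩) ?_
    · rw [Subgroup.coe_mul, hχ _ x.2 _ y.2, h.sg_mul_right (hCR x.2) (hCR y.2) (hCR s.2)]; ring
    · rcases h.sg_cases g x₀ with e | e <;> rcases h.sg_cases s.1 x₀ with e' | e' <;> simp_all
  have hcol : ∀ x : C, ∑ s : C, sg g x.1 * sg s.1 x.1 =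
      if ∀ y ∈ C, sg y x.1 = 1 then (Fintype.card C : ℤ) else 0 := by
    intro x
    split_ifs with hx
    · have : ∀ s : C, sg g x.1 * sg s.1 x.1 = 1 := fun s => by
        rw [hx s.1 s.2, sg_eq_one_iff.2 (hz x x.2 hx), one_mul]
      simp [this]
    · push Not at hx
      obtain ⟨y, hy, hne⟩ := hx
      rw [← Finset.mul_sum, sum_sign (fun s : C => sg s.1 x.1) (fun u v => h.sg_mul (hCR u.2) (hCR v.2) (hCR x.2))
        (a₀ := ⟨y, hy⟩) ((h.sg_cases _ _).resolve_left hne), mul_zero]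
  have h1 : ∑ s : C, ∑ x : C, sg g x.1 * sg s.1 x.1 = 0 := Finset.sum_eq_zero fun s _ => hzero s
  rw [Finset.sum_comm] at h1
  simp only [hcol] at h1
  have h2 : (0 : ℤ) < ∑ x : C, if ∀ y ∈ C, sg y x.1 = 1 then (Fintype.card C : ℤ) else 0 := by
    refine Finset.sum_pos' (fun x _ => by split_ifs <;> positivity) ⟨1, Finset.mem_univ _, ?_⟩
    rw [if_pos fun y _ => by simp [sg]]
    exact_mod_cast Fintype.card_pos
  exact h2.ne' h1

/-- An element acting by signs is a scalar multiple of an element. -/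
theorem mem_of_signs {g : GL ι E} (hg : ∀ x ∈ R, g * x = x * g ∨ g * x = -(x * g)) :
    ∃ s ∈ R, ∃ c : E, (g : Matrix ι ι E) = c • (s : Matrix ι ι E) := by
  obtain ⟨s, hs, hsg⟩ := h.exists_match R le_rfl hg fun x hx hc => by
    rcases h.pm x hx (fun y hy => (sg_eq_one_iff.1 (hc y hy)).symm) with rfl | rfl <;> simp
  have key : ∀ x ∈ R, s⁻¹ * g * x = x * (s⁻¹ * g) := by
    intro x hx
    have := hsg x hx
    rcases h.comm s hs x hx with e | e
    · rw [sg_eq_one_iff.2 e, sg_eq_one_iff] at this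
      have e' : s⁻¹ * x = x * s⁻¹ := by rw [inv_mul_eq_iff_eq_mul, ← mul_assoc, e, mul_inv_cancel_right]
      rw [mul_assoc, this, ← mul_assoc, e', mul_assoc]
    · rw [sg_ne_iff.2 (h.not_comm_of_anti e), sg_ne_iff] at this
      have e' : s⁻¹ * x = -(x * s⁻¹) := by
        rw [inv_mul_eq_iff_eq_mul, mul_neg, ← mul_assoc, e, neg_mul, neg_neg, mul_inv_cancel_right]
      rw [mul_assoc, (hg x hx).resolve_left this, mul_neg, ← mul_assoc, e', neg_mul, neg_neg, mul_assoc]
  obtain ⟨c, hc⟩ := h.irr ((s⁻¹ * g : GL ι E) : Matrix ι ι E) fun x hx => by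
    rw [← Units.val_mul, ← Units.val_mul, key x hx]
  refine ⟨s, hs, c, ?_⟩
  calc (g : Matrix ι ι E) = (s : Matrix ι ι E) * ((s⁻¹ * g : GL ι E) : Matrix ι ι E) := by
        rw [← Units.val_mul, mul_inv_cancel_left]
    _ = _ := by rw [hc, Matrix.mul_smul, Matrix.mul_one]

end SR

end Cfsg.Agent.ClassicalMax.SympMinus
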