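import Cfsg.Agent.ClassicalMax.SympMinus.Group

/-!
Lifts `1 + a` of elements of square minus one, and a quotient of two of them in any group normalising the two-group,
normalised by products of two lifts and not acting by signs.
-/

set_option autoImplicit false
set_option linter.unusedSectionVars false

namespace Cfsg.Agent.ClassicalMax.SympMinus

open Matrix SympType

variable {ι : Type*} [Fintype ι] [DecidableEq ι] {E : Type*} [Field E]

local notation "M" => Matrix ι ι E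

open Classical in
/-- The unit `1 + a` for `a` of square minus one. -/
noncomputable def tl (a : GL ι E) : GL ι E :=
  if h : a * a = -1 ∧ (2 : E) ≠ 0 then
    ⟨1 + (a : M), (2 : E)⁻¹ • (1 - (a : M)), by
      have e : (a : M) * (a : M) = -1 := by rw [← Units.val_mul, h.1, Units.val_neg, Units.val_one]
      rw [Matrix.mul_smul, show (1 + (a : M)) * (1 - a) = 1 - (a : M) * a by noncomm_ring, e, sub_neg_eq_add,
        ← two_smul E, smul_smul, inv_mul_cancel₀ h.2, one_smul], by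
      have e : (a : M) * (a : M) = -1 := by rw [← Units.val_mul, h.1, Units.val_neg, Units.val_one]
      rw [Matrix.smul_mul, show (1 - (a : M)) * (1 + a) = 1 - (a : M) * a by noncomm_ring, e, sub_neg_eq_add,
        ← two_smul E, smul_smul, inv_mul_cancel₀ h.2, one_smul]⟩
  else 1

namespace SR

variable [Finite E] {R : Subgroup (GL ι E)} (h : SR R)
include h

theorem sq_val {a : GL ι E} (ha2 : a * a = -1) : (a : M) * (a : M) = -1 := by
  rw [← Units.val_mul, ha2, Units.val_neg, Units.val_one]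

theorem tl_val {a : GL ι E} (ha2 : a * a = -1) : ((tl a : GL ι E) : M) = 1 + (a : M) := by
  rw [tl, dif_pos ⟨ha2, h.two⟩]

theorem tl_fix {a x : GL ι E} (ha2 : a * a = -1) (e : a * x = x * a) : tl a * x * (tl a)⁻¹ = x := by
  rw [mul_inv_eq_iff_eq_mul]
  have e' : (a : M) * x = x * a := congrArg Units.val e
  exact Units.ext (by simp only [Units.val_mul, h.tl_val ha2, add_mul, mul_add, one_mul, mul_one, e'])

theorem tl_move {a x : GL ι E} (ha2 : a * a = -1) (e : a * x = -(x * a)) : tl a * x * (tl a)⁻¹ = a * x := by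
  rw [mul_inv_eq_iff_eq_mul]
  have e' : (a : M) * x = -(x * a) := congrArg Units.val e
  refine Units.ext ?_
  simp only [Units.val_mul, h.tl_val ha2, add_mul, mul_add, one_mul, mul_one]
  rw [Matrix.mul_assoc (a : M) (x : M), show (x : M) * (a : M) = -((a : M) * x) by rw [e', neg_neg],
    Matrix.mul_neg, ← Matrix.mul_assoc (a : M) (a : M), h.sq_val ha2, Matrix.neg_mul, one_mul, neg_neg, add_comm]

theorem conj_sq {a g : GL ι E} (ha2 : a * a = -1) : g * a * g⁻¹ * (g * a * g⁻¹) = -1 := by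
  rw [show g * a * g⁻¹ * (g * a * g⁻¹) = g * (a * a) * g⁻¹ by group, ha2]
  simp

theorem tl_conj {a : GL ι E} (g : GL ι E) (ha2 : a * a = -1) : g * tl a * g⁻¹ = tl (g * a * g⁻¹) := by
  refine Units.ext ?_
  rw [h.tl_val (h.conj_sq ha2)]
  simp only [Units.val_mul, h.tl_val ha2, mul_add, add_mul, mul_one]
  rw [Units.mul_inv]

theorem tl_nm {a : GL ι E} (ha : a ∈ R) (ha2 : a * a = -1) : Nm R (tl a) := fun x hx => by
  rcases h.comm a ha x hx with e | e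
  · rw [h.tl_fix ha2 e]; exact hx
  · rw [h.tl_move ha2 e]; exact mul_mem ha hx

theorem tl_inv_nm {a : GL ι E} (ha : a ∈ R) (ha2 : a * a = -1) : Nm R (tl a)⁻¹ := fun x hx => by
  rw [inv_inv]
  rcases h.comm a ha x hx with e | e
  · have := h.tl_fix (x := x) ha2 e
    rw [show (tl a)⁻¹ * x * tl a = x by
      conv_lhs => rw [← this]
      group]
    exact hx
  · have hm := mul_mem (inv_mem ha) hx
    have e' : a * (a⁻¹ * x) = -(a⁻¹ * x * a) := by
      rw [mul_inv_cancel_left, mul_assoc, show x * a = -(a * x) by rw [e, neg_neg], mul_neg, inv_mul_cancel_left,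
        neg_neg]
    have := h.tl_move ha2 e'
    rw [mul_inv_cancel_left] at this
    rw [show (tl a)⁻¹ * x * tl a = a⁻¹ * x by
      conv_lhs => rw [← this]
      group]
    exact hm

theorem nc_of_neg {a : GL ι E} (ha2 : a * a = -1) : NC a := by
  constructor <;> rintro rfl <;> exact h.one_ne_neg_one (by simpa using ha2)

theorem sg_conj {g x y : GL ι E} : sg (g * x * g⁻¹) (g * y * g⁻¹) = sg x y := by
  have e1 : g * x * g⁻¹ * (g * y * g⁻¹) = g * (x * y) * g⁻¹ := by group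
  have e2 : g * y * g⁻¹ * (g * x * g⁻¹) = g * (y * x) * g⁻¹ := by group
  rcases h.sg_cases x y with e | e <;> rw [e]
  · rw [sg_eq_one_iff] at e ⊢; rw [e1, e2, e]
  · rw [sg_ne_iff] at e ⊢
    rw [e1, e2]
    exact fun e' => e (mul_left_cancel (mul_right_cancel e'))

/-- Up to sign it is a square minus one element or a product of two orthogonal ones. -/
theorem exists_neg_factor (hn : 4 ≤ Fintype.card ι) {r : GL ι E} (hr : r ∈ R) (hr1 : NC r) (hr2 : r * r = 1) :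
    ∃ z ∈ R, z * z = -1 ∧ z * r * (z * r) = -1 := by
  obtain ⟨y, hy, e⟩ := h.exists_anti hr hr1
  obtain ⟨p, q, Q, pa, -, qa, -⟩ := h.exists_pair_perp ⟨hr, hy, e⟩ hn
  rcases h.tri_neg Q with e' | e' | e'
  · exact ⟨p, Q.ha, e', by rw [h.mul_sq_comm pa, e', hr2, mul_one]⟩
  · exact ⟨q, Q.hb, e', by rw [h.mul_sq_comm qa, e', hr2, mul_one]⟩
  · exact ⟨p * q, mul_mem Q.ha Q.hb, e', by
      rw [h.mul_sq_comm (by rw [h.sg_mul Q.ha Q.hb hr, pa, qa, one_mul]), e', hr2, mul_one]⟩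

/-- An element acting by signs on square minus one acts by signs. -/
theorem signs_of_neg (hn : 4 ≤ Fintype.card ι) {b : GL ι E}
    (hb : ∀ a ∈ R, a * a = -1 → b * a * b⁻¹ = a ∨ b * a * b⁻¹ = -a) :
    ∀ r ∈ R, b * r * b⁻¹ = r ∨ b * r * b⁻¹ = -r := by
  intro r hr
  rcases h.sq r hr with e | e
  swap
  · exact hb r hr e
  by_cases hr1 : NC r
  swap
  · simp only [NC, not_and_or, not_not] at hr1
    rcases hr1 with rfl | rfl <;> simp
  obtain ⟨z, hz, hz2, hzr⟩ := h.exists_neg_factor hn hr hr1 e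
  have e1 : b * r * b⁻¹ = (b * z * b⁻¹)⁻¹ * (b * (z * r) * b⁻¹) := by group
  rcases hb z hz hz2 with e2 | e2 <;> rcases hb _ (mul_mem hz hr) hzr with e3 | e3 <;> rw [e1, e2, e3] <;>
    simp

/-- From a quotient of two lifts one of two anticommuting ones. -/
theorem pair_of_two {L : Subgroup (GL ι E)}
    (hconj : ∀ u ∈ R, ∀ v ∈ R, u * u = -1 → v * v = -1 → ∀ b ∈ L, tl u * tl v * b * (tl u * tl v)⁻¹ ∈ L)
    {a d : GL ι E} (ha : a ∈ R) (hd : d ∈ R) (a2 : a * a = -1) (d2 : d * d = -1) (h1 : d ≠ a) (h2 : d ≠ -a)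
    (ht : tl d * (tl a)⁻¹ ∈ L) :
    ∃ a d, Pair R a d ∧ a * a = -1 ∧ d * d = -1 ∧ tl d * (tl a)⁻¹ ∈ L := by
  rcases h.comm a ha d hd with e | e
  swap
  · exact ⟨a, d, ⟨ha, hd, (h.sg_neg_iff ha hd).2 e⟩, a2, d2, ht⟩
  have had : NC (a * d) := by
    have ai : a⁻¹ = -a := inv_eq_of_mul_eq_one_right (by rw [mul_neg, a2, neg_neg])
    constructor <;> intro e'
    · exact h2 (by rw [← ai]; exact (inv_eq_of_mul_eq_one_right e').symm)
    · exact h1 (by rw [eq_inv_mul_of_mul_eq e', mul_neg_one, ai, neg_neg])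
  obtain ⟨c₀, hc₀, c0a, c0d⟩ := h.sep ha hd (h.nc_of_neg d2) had
  obtain ⟨c, hc, ca, cd, c2⟩ : ∃ c ∈ R, sg c a = 1 ∧ sg c d = -1 ∧ c * c = -1 := by
    rcases h.sq c₀ hc₀ with e' | e'
    · refine ⟨c₀ * a, mul_mem hc₀ ha, ?_, ?_, by rw [h.mul_sq_comm c0a, e', a2, one_mul]⟩
      · rw [h.sg_mul hc₀ ha ha, c0a, sg_self, one_mul]
      · rw [h.sg_mul hc₀ ha hd, c0d, sg_eq_one_iff.2 e, mul_one]
    · exact ⟨c₀, hc₀, c0a, c0d, e'⟩
  obtain ⟨s, hs⟩ : ∃ s, s = tl c * tl a := ⟨_, rfl⟩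
  have hsd : s * d * s⁻¹ = c * d := by
    rw [hs, show tl c * tl a * d * (tl c * tl a)⁻¹ = tl c * (tl a * d * (tl a)⁻¹) * (tl c)⁻¹ by group,
      h.tl_fix a2 e, h.tl_move c2 ((h.sg_neg_iff hc hd).1 cd)]
  have hsa : s * a * s⁻¹ = a := by
    rw [hs, show tl c * tl a * a * (tl c * tl a)⁻¹ = tl c * (tl a * a * (tl a)⁻¹) * (tl c)⁻¹ by group,
      h.tl_fix a2 rfl, h.tl_fix c2 (sg_eq_one_iff.1 ca)]
  have hcd2 : c * d * (c * d) = -1 := hsd ▸ h.conj_sq d2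
  have e1 : s * (tl d * (tl a)⁻¹) * s⁻¹ = tl (c * d) * (tl a)⁻¹ := by
    rw [show s * (tl d * (tl a)⁻¹) * s⁻¹ = s * tl d * s⁻¹ * (s * tl a * s⁻¹)⁻¹ by group, h.tl_conj s d2,
      h.tl_conj s a2, hsd, hsa]
  have := mul_mem (hs ▸ hconj c hc a ha c2 a2 _ ht) (inv_mem ht)
  rw [e1, show tl (c * d) * (tl a)⁻¹ * (tl d * (tl a)⁻¹)⁻¹ = tl (c * d) * (tl d)⁻¹ by group] at this
  refine ⟨d, c * d, ⟨hd, mul_mem hc hd, ?_⟩, d2, hcd2, this⟩
  rw [h.sg_mul_right hc hd hd, sg_self, sg_comm, cd]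
  norm_num

/-- A fixed element of square minus one and a moved one give a pair. -/
theorem pair_of_fixed {L : Subgroup (GL ι E)} (hn : 4 ≤ Fintype.card ι) (hRL : R ≤ L) (hLN : ∀ b ∈ L, Nm R b)
    (hconj : ∀ u ∈ R, ∀ v ∈ R, u * u = -1 → v * v = -1 → ∀ b ∈ L, tl u * tl v * b * (tl u * tl v)⁻¹ ∈ L)
    {b c : GL ι E} (hb : b ∈ L) (hc : c ∈ R) (c2 : c * c = -1) (hfix : b * c * b⁻¹ = c ∨ b * c * b⁻¹ = -c)
    (hmove : ¬ ∀ r ∈ R, b * r * b⁻¹ = r ∨ b * r * b⁻¹ = -r) :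
    ∃ a d, Pair R a d ∧ a * a = -1 ∧ d * d = -1 ∧ tl d * (tl a)⁻¹ ∈ L := by
  obtain ⟨b', hb', hfix', hmove'⟩ :
      ∃ b' ∈ L, b' * c * b'⁻¹ = c ∧ ¬ ∀ r ∈ R, b' * r * b'⁻¹ = r ∨ b' * r * b'⁻¹ = -r := by
    rcases hfix with e | e
    · exact ⟨b, hb, e, hmove⟩
    obtain ⟨y, hy, hcy⟩ := h.exists_anti hc (h.nc_of_neg c2)
    refine ⟨b * y, mul_mem hb (hRL hy), ?_, fun hall => hmove fun r hr => ?_⟩
    · have ey : y * c * y⁻¹ = -c := by
        rw [mul_inv_eq_iff_eq_mul, neg_mul, (h.sg_neg_iff hc hy).1 hcy, neg_neg]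
      rw [show b * y * c * (b * y)⁻¹ = b * (y * c * y⁻¹) * b⁻¹ by group, ey, mul_neg, neg_mul, e, neg_neg]
    · have := hall r hr
      rw [show b * y * r * (b * y)⁻¹ = b * (y * r * y⁻¹) * b⁻¹ by group] at this
      rcases h.comm y hy r hr with e' | e'
      · rwa [e', mul_inv_cancel_right] at this
      · rw [e', neg_mul, mul_inv_cancel_right, mul_neg, neg_mul, neg_eq_iff_eq_neg, neg_inj] at this
        exact this.symm
  obtain ⟨a, ha, a2, h1, h2⟩ : ∃ a ∈ R, a * a = -1 ∧ b' * a * b'⁻¹ ≠ a ∧ b' * a * b'⁻¹ ≠ -a := by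
    by_contra hc
    push Not at hc
    exact hmove' (h.signs_of_neg hn fun a ha a2 => or_iff_not_imp_left.2 fun e => hc a ha a2 e)
  refine h.pair_of_two hconj ha (hLN b' hb' a ha) a2 (h.conj_sq a2) h1 h2 ?_
  have := mul_mem hb' (hconj a ha c hc a2 c2 _ (inv_mem hb'))
  rw [show b' * (tl a * tl c * b'⁻¹ * (tl a * tl c)⁻¹) =
    b' * tl a * b'⁻¹ * (b' * tl c * b'⁻¹) * (tl c)⁻¹ * (tl a)⁻¹ by group, h.tl_conj b' a2, h.tl_conj b' c2, hfix',
    mul_inv_cancel_right] at this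
  exact this

/-- An element not acting by signs gives a pair. -/
theorem exists_lift_pair (hM : Minus R) {L : Subgroup (GL ι E)} (hn : 4 ≤ Fintype.card ι) (hRL : R ≤ L)
    (hLN : ∀ b ∈ L, Nm R b)
    (hconj : ∀ u ∈ R, ∀ v ∈ R, u * u = -1 → v * v = -1 → ∀ b ∈ L, tl u * tl v * b * (tl u * tl v)⁻¹ ∈ L)
    {b : GL ι E} (hb : b ∈ L) (hbs : ¬ ∀ r ∈ R, b * r * b⁻¹ = r ∨ b * r * b⁻¹ = -r) :
    ∃ a d, Pair R a d ∧ a * a = -1 ∧ d * d = -1 ∧ tl d * (tl a)⁻¹ ∈ L := by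
  classical
  by_cases hfixed : ∃ c ∈ R, c * c = -1 ∧ (b * c * b⁻¹ = c ∨ b * c * b⁻¹ = -c)
  · obtain ⟨c, hc, c2, e⟩ := hfixed
    exact h.pair_of_fixed hn hRL hLN hconj hb hc c2 e hbs
  push Not at hfixed
  by_contra hfail
  -- every element of square minus one returns after two steps
  have hback : ∀ a ∈ R, a * a = -1 →
      (sg a (b * a * b⁻¹) = 1 ∧ (b * b * a * (b * b)⁻¹ = a ∨ b * b * a * (b * b)⁻¹ = -a)) ∨
      (sg a (b * a * b⁻¹) = -1 ∧
        (b * a * b⁻¹ * (b * b * a * (b * b)⁻¹) = a ∨ b * a * b⁻¹ * (b * b * a * (b * b)⁻¹) = -a)) := by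
    intro a ha a2
    obtain ⟨a', ha'⟩ : ∃ a', a' = b * a * b⁻¹ := ⟨_, rfl⟩
    obtain ⟨a'', ha''⟩ : ∃ a'', a'' = b * a' * b⁻¹ := ⟨_, rfl⟩
    have ha'R : a' ∈ R := ha' ▸ hLN b hb a ha
    have ha''R : a'' ∈ R := ha'' ▸ hLN b hb a' ha'R
    have a'2 : a' * a' = -1 := ha' ▸ h.conj_sq a2
    have a''2 : a'' * a'' = -1 := ha'' ▸ h.conj_sq a'2
    obtain ⟨d, hd⟩ : ∃ d, d = tl a' * a'' * (tl a')⁻¹ := ⟨_, rfl⟩
    have hdR : d ∈ R := hd ▸ h.tl_nm ha'R a'2 a'' ha''R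
    have d2 : d * d = -1 := hd ▸ h.conj_sq a''2
    have ht : tl d * (tl a)⁻¹ ∈ L := by
      have := mul_mem hb (hconj a ha a' ha'R a2 a'2 _ (inv_mem hb))
      rw [show b * (tl a * tl a' * b⁻¹ * (tl a * tl a')⁻¹) =
        b * tl a * b⁻¹ * (b * tl a' * b⁻¹) * (tl a')⁻¹ * (tl a)⁻¹ by group, h.tl_conj b a2, h.tl_conj b a'2, ← ha',
        ← ha'', h.tl_conj (tl a') a''2, ← hd] at this
      exact this
    have hda : d = a ∨ d = -a := by
      by_contra hne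
      push Not at hne
      exact hfail (h.pair_of_two hconj ha hdR a2 d2 hne.1 hne.2 ht)
    have hs : sg a' a'' = sg a a' := by rw [ha'', ha', h.sg_conj]
    have e2 : b * b * a * (b * b)⁻¹ = a'' := by rw [ha'', ha']; group
    rw [← ha', e2]
    rcases h.sg_cases a a' with e | e
    · left
      refine ⟨e, ?_⟩
      rw [hd, h.tl_fix a'2 (sg_eq_one_iff.1 (hs.trans e))] at hda
      exact hda
    · right
      refine ⟨e, ?_⟩
      rw [hd, h.tl_move a'2 ((h.sg_neg_iff ha'R ha''R).1 (hs.trans e))] at hda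
      exact hda
  by_cases hA : ∃ a ∈ R, a * a = -1 ∧ sg a (b * a * b⁻¹) = 1
  · obtain ⟨a, ha, a2, e⟩ := hA
    obtain ⟨-, hb2⟩ := (hback a ha a2).resolve_right fun e' => by rw [e] at e'; exact absurd e'.1 (by norm_num)
    by_cases hsgn : ∀ r ∈ R, b * b * r * (b * b)⁻¹ = r ∨ b * b * r * (b * b)⁻¹ = -r
    swap
    · exact hfail (h.pair_of_fixed hn hRL hLN hconj (mul_mem hb hb) ha a2 hb2 hsgn)
    -- the fixed classes
    obtain ⟨F, hF⟩ : ∃ F : Subgroup (GL ι E), ∀ r, r ∈ F ↔ r ∈ R ∧ (b * r * b⁻¹ = r ∨ b * r * b⁻¹ = -r) := by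
      refine ⟨{ carrier := {r | r ∈ R ∧ (b * r * b⁻¹ = r ∨ b * r * b⁻¹ = -r)}
                one_mem' := ⟨one_mem R, by simp⟩
                mul_mem' := fun {u v} hu hv => ⟨mul_mem hu.1 hv.1, ?_⟩
                inv_mem' := fun {u} hu => ⟨inv_mem hu.1, ?_⟩ }, fun r => Iff.rfl⟩
      · rw [show b * (u * v) * b⁻¹ = b * u * b⁻¹ * (b * v * b⁻¹) by group]
        rcases hu.2 with e | e <;> rcases hv.2 with e' | e' <;> rw [e, e'] <;> simp
      · rw [show b * u⁻¹ * b⁻¹ = (b * u * b⁻¹)⁻¹ by group]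
        rcases hu.2 with e | e <;> rw [e] <;> simp
    have hFR : F ≤ R := fun r hr => ((hF r).1 hr).1
    have hsqF : ∀ r ∈ F, r * r = 1 := fun r hr => by
      obtain ⟨hr, e⟩ := (hF r).1 hr
      refine (h.sq r hr).resolve_right fun r2 => ?_
      obtain ⟨e1, e2⟩ := hfixed r hr r2
      exact e.elim e1 e2
    have hcomF : ∀ u ∈ F, ∀ v ∈ F, u * v = v * u := by
      intro u hu v hv
      rw [← inv_eq_of_mul_eq_one_right (hsqF _ (mul_mem hu hv)), _root_.mul_inv_rev,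
        inv_eq_of_mul_eq_one_right (hsqF u hu), inv_eq_of_mul_eq_one_right (hsqF v hv)]
    have hlt := hM F hFR hcomF hsqF
    have hphi : ∀ r ∈ R, r * (b * r * b⁻¹) ∈ F := by
      intro r hr
      have hr' := hLN b hb r hr
      refine (hF _).2 ⟨mul_mem hr hr', ?_⟩
      have e1 : b * (r * (b * r * b⁻¹)) * b⁻¹ = b * r * b⁻¹ * (b * b * r * (b * b)⁻¹) := by group
      rcases hsgn r hr with e2 | e2 <;> rcases h.comm r hr _ hr' with e3 | e3 <;> rw [e1, e2, e3] <;> simp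
    have hker : ∀ r ∈ R, ∀ s ∈ R, (r * (b * r * b⁻¹) = s * (b * s * b⁻¹) ∨
        r * (b * r * b⁻¹) = -(s * (b * s * b⁻¹))) → s⁻¹ * r ∈ F := by
      intro r hr s hs e
      refine (hF _).2 ⟨mul_mem (inv_mem hs) hr, ?_⟩
      obtain ⟨q, hq⟩ : ∃ q, q = s⁻¹ * r := ⟨_, rfl⟩
      rw [← hq]
      have hq' : b * q * b⁻¹ = (b * s * b⁻¹)⁻¹ * (b * r * b⁻¹) := by rw [hq]; group
      have hinv : ∀ u ∈ R, u⁻¹ = u ∨ u⁻¹ = -u := fun u hu => by
        rcases h.sq u hu with e' | e'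
        · exact Or.inl (inv_eq_of_mul_eq_one_right e')
        · exact Or.inr (inv_eq_of_mul_eq_one_right (by rw [mul_neg, e', neg_neg]))
      have hs' := hinv _ (hLN b hb s hs)
      have hr' := hinv _ (hLN b hb r hr)
      have hqe : q = b * s * b⁻¹ * (b * r * b⁻¹)⁻¹ ∨ q = -(b * s * b⁻¹ * (b * r * b⁻¹)⁻¹) := by
        rcases e with e | e
        · left
          calc q = s⁻¹ * (r * (b * r * b⁻¹)) * (b * r * b⁻¹)⁻¹ := by rw [hq]; group
            _ = _ := by rw [e]; group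
        · right
          calc q = s⁻¹ * (r * (b * r * b⁻¹)) * (b * r * b⁻¹)⁻¹ := by rw [hq]; group
            _ = -(s⁻¹ * (s * (b * s * b⁻¹)) * (b * r * b⁻¹)⁻¹) := by rw [e, mul_neg, neg_mul]
            _ = _ := by rw [inv_mul_cancel_left]
      rcases hqe with e1 | e1 <;> rcases hs' with e2 | e2 <;> rcases hr' with e3 | e3 <;>
        rw [hq', e2, e1, e3] <;> simp
    obtain ⟨val, hval⟩ : ∃ val : R × Bool → F, ∀ t, ((val t) : GL ι E) =
        bif t.2 then -(t.1.1 * (b * t.1.1 * b⁻¹)) else t.1.1 * (b * t.1.1 * b⁻¹) := by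
      refine ⟨fun t => ⟨bif t.2 then -(t.1.1 * (b * t.1.1 * b⁻¹)) else t.1.1 * (b * t.1.1 * b⁻¹), ?_⟩, fun t => rfl⟩
      have hneg : (-1 : GL ι E) ∈ F := (hF _).2 ⟨h.neg, by simp⟩
      cases t.2
      · exact hphi _ t.1.2
      · show -(t.1.1 * (b * t.1.1 * b⁻¹)) ∈ F
        rw [← neg_one_mul]; exact mul_mem hneg (hphi _ t.1.2)
    have hfib : ∀ t u, val t = val u → u.1.1⁻¹ * t.1.1 ∈ F := by
      intro t u e
      refine hker _ t.1.2 _ u.1.2 ?_
      have e' := congrArg Subtype.val e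
      rw [hval, hval] at e'
      generalize t.2 = i at e'
      generalize u.2 = j at e'
      cases i <;> cases j <;> simp only [cond_true, cond_false] at e'
      · exact Or.inl e'
      · exact Or.inr e'
      · exact Or.inr (by rw [← e', neg_neg])
      · exact Or.inl (neg_inj.1 e')
    obtain ⟨rep, hrep⟩ : ∃ rep : F → R × Bool, ∀ t, val (rep (val t)) = val t :=
      ⟨fun v => if hv : ∃ t, val t = v then hv.choose else (1, false), fun t => by
        have hv : ∃ u, val u = val t := ⟨t, rfl⟩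
        simp only [dif_pos hv]
        exact hv.choose_spec⟩
    obtain ⟨f, hf⟩ : ∃ f : R × Bool → F × F, ∀ t, (f t).1 = val t ∧ ((f t).2 : GL ι E) = (rep (val t)).1.1⁻¹ * t.1.1 :=
      ⟨fun t => (val t, ⟨_, hfib t (rep (val t)) (hrep t).symm⟩), fun t => ⟨rfl, rfl⟩⟩
    have hinj : Function.Injective f := by
      intro t u e
      have e1 : val t = val u := by rw [← (hf t).1, ← (hf u).1, e]
      have e2 : t.1 = u.1 := by
        refine Subtype.ext (mul_left_cancel (a := (rep (val t)).1.1⁻¹) ?_)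
        rw [← (hf t).2, e, (hf u).2, e1]
      refine Prod.ext e2 ?_
      have e3 := congrArg Subtype.val e1
      rw [hval, hval, e2] at e3
      generalize t.2 = i at e3 ⊢
      generalize u.2 = j at e3 ⊢
      cases i <;> cases j <;> simp only [cond_true, cond_false] at e3
      · rfl
      · exact absurd e3 (h.ne_neg _)
      · exact absurd e3.symm (h.ne_neg _)
      · rfl
    have h3 := Nat.card_le_card_of_injective f hinj
    rw [Nat.card_prod, Nat.card_prod, h.card, Nat.card_eq_fintype_card (α := Bool), Fintype.card_bool] at h3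
    nlinarith
  push Not at hA
  -- no element commutes with its image
  obtain ⟨x, hx, hxn⟩ : ∃ x ∈ R, NC x := by
    by_contra hc
    push Not at hc
    exact hbs fun r hr => by
      have := hc r hr
      simp only [NC, not_and_or, not_not] at this
      rcases this with rfl | rfl <;> simp
  obtain ⟨y, hy, hxy⟩ := h.exists_anti hx hxn
  obtain ⟨a, ha, a2⟩ : ∃ a ∈ R, a * a = -1 := by
    rcases h.tri_neg ⟨hx, hy, hxy⟩ with e | e | e
    exacts [⟨x, hx, e⟩, ⟨y, hy, e⟩, ⟨x * y, mul_mem hx hy, e⟩]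
  have hanti := (h.sg_cases a _).resolve_left (hA a ha a2)
  obtain ⟨a', ha'⟩ : ∃ a', a' = b * a * b⁻¹ := ⟨_, rfl⟩
  rw [← ha'] at hanti
  have ha'R : a' ∈ R := ha' ▸ hLN b hb a ha
  have a'2 : a' * a' = -1 := ha' ▸ h.conj_sq a2
  obtain ⟨a'', ha''⟩ : ∃ a'', a'' = b * a' * b⁻¹ := ⟨_, rfl⟩
  have ha''R : a'' ∈ R := ha'' ▸ hLN b hb a' ha'R
  have hrel : a' * a'' = a ∨ a' * a'' = -a := by
    rcases hback a ha a2 with ⟨e, -⟩ | ⟨-, e⟩
    · exact absurd e (hA a ha a2)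
    · rwa [show b * b * a * (b * b)⁻¹ = a'' by rw [ha'', ha']; group, ← ha'] at e
  have P : Pair R a a' := ⟨ha, ha'R, hanti⟩
  obtain ⟨p, q, Q, pa, pa', qa, qa'⟩ := h.exists_pair_perp P hn
  obtain ⟨c, hc, c2, ca, ca'⟩ : ∃ c ∈ R, c * c = -1 ∧ sg c a = 1 ∧ sg c a' = 1 := by
    rcases h.tri_neg Q with e | e | e
    · exact ⟨p, Q.ha, e, pa, pa'⟩
    · exact ⟨q, Q.hb, e, qa, qa'⟩
    · exact ⟨p * q, mul_mem Q.ha Q.hb, e, by rw [h.sg_mul Q.ha Q.hb ha, pa, qa, one_mul],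
        by rw [h.sg_mul Q.ha Q.hb ha'R, pa', qa', one_mul]⟩
  obtain ⟨c', hc'⟩ : ∃ c', c' = b * c * b⁻¹ := ⟨_, rfl⟩
  have hc'R : c' ∈ R := hc' ▸ hLN b hb c hc
  have c'2 : c' * c' = -1 := hc' ▸ h.conj_sq c2
  have hcc' : sg c c' = -1 := hc' ▸ (h.sg_cases c _).resolve_left (hA c hc c2)
  have c'a' : sg c' a' = 1 := by rw [hc', ha', h.sg_conj, ca]
  have c'a'' : sg c' a'' = 1 := by rw [hc', ha'', h.sg_conj, ca']
  have c'a : sg c' a = 1 := by
    have e : sg c' (a' * a'') = 1 := by rw [h.sg_mul_right ha'R ha''R hc'R, c'a', c'a'', one_mul]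
    rcases hrel with e' | e' <;> rw [e'] at e
    · exact e
    · rw [← neg_one_mul, h.sg_mul_right h.neg ha hc'R, show sg c' (-1 : GL ι E) = 1 by simp [sg], one_mul] at e
      exact e
  obtain ⟨u, v, U, ua, ua', va, va', uc, uc', vc, vc'⟩ :=
    h.exists_pair_perp₂ P ⟨hc, hc'R, hcc'⟩ ca ca' c'a c'a'
      (h.minus_big hM P ⟨hc, hc'R, hcc'⟩ ca ca' c'a c'a' a2 a'2 c2 c'2)
  obtain ⟨z, hz, z2, za, za', zc, zc'⟩ :
      ∃ z ∈ R, z * z = -1 ∧ sg z a = 1 ∧ sg z a' = 1 ∧ sg z c = 1 ∧ sg z c' = 1 := by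
    rcases h.tri_neg U with e | e | e
    · exact ⟨u, U.ha, e, ua, ua', uc, uc'⟩
    · exact ⟨v, U.hb, e, va, va', vc, vc'⟩
    · exact ⟨u * v, mul_mem U.ha U.hb, e, by rw [h.sg_mul U.ha U.hb ha, ua, va, one_mul],
        by rw [h.sg_mul U.ha U.hb ha'R, ua', va', one_mul], by rw [h.sg_mul U.ha U.hb hc, uc, vc, one_mul],
        by rw [h.sg_mul U.ha U.hb hc'R, uc', vc', one_mul]⟩
  obtain ⟨b₁, hb₁⟩ : ∃ b₁, b₁ = tl a' * tl c' * (tl c)⁻¹ * (tl a)⁻¹ := ⟨_, rfl⟩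
  have hb₁L : b₁ ∈ L := by
    have := mul_mem hb (hconj a ha c hc a2 c2 _ (inv_mem hb))
    rw [show b * (tl a * tl c * b⁻¹ * (tl a * tl c)⁻¹) =
      b * tl a * b⁻¹ * (b * tl c * b⁻¹) * (tl c)⁻¹ * (tl a)⁻¹ by group, h.tl_conj b a2, h.tl_conj b c2, ← ha',
      ← hc', ← hb₁] at this
    exact this
  have hfx : ∀ {w s : GL ι E}, s * s = -1 → sg w s = 1 → (tl s)⁻¹ * w * tl s = w ∧ tl s * w * (tl s)⁻¹ = w :=
    fun {w s} s2 e => by
      have e' := h.tl_fix s2 (sg_eq_one_iff.1 e).symm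
      refine ⟨?_, e'⟩
      conv_lhs => rw [← e']
      group
  have hb₁z : b₁ * z * b₁⁻¹ = z := by
    rw [hb₁, show tl a' * tl c' * (tl c)⁻¹ * (tl a)⁻¹ * z * (tl a' * tl c' * (tl c)⁻¹ * (tl a)⁻¹)⁻¹ =
      tl a' * (tl c' * ((tl c)⁻¹ * ((tl a)⁻¹ * z * tl a) * tl c) * (tl c')⁻¹) * (tl a')⁻¹ by group,
      (hfx a2 za).1, (hfx c2 zc).1, (hfx c'2 zc').2, (hfx a'2 za').2]
  refine hfail (h.pair_of_fixed hn hRL hLN hconj hb₁L hz z2 (Or.inl hb₁z) fun hall => ?_)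
  have e1 : b₁ * a * b₁⁻¹ = a' * a := by
    rw [hb₁, show tl a' * tl c' * (tl c)⁻¹ * (tl a)⁻¹ * a * (tl a' * tl c' * (tl c)⁻¹ * (tl a)⁻¹)⁻¹ =
      tl a' * (tl c' * ((tl c)⁻¹ * ((tl a)⁻¹ * a * tl a) * tl c) * (tl c')⁻¹) * (tl a')⁻¹ by group,
      (hfx a2 (sg_self a)).1, (hfx c2 (by rw [sg_comm, ca])).1, (hfx c'2 (by rw [sg_comm, c'a])).2,
      h.tl_move a'2 ((h.sg_neg_iff ha'R ha).1 (by rw [sg_comm, hanti]))]
  have := hall a ha
  rw [e1] at this
  have hnc := h.nc_of_neg a'2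
  rcases this with e | e
  · exact hnc.1 (mul_eq_right.1 e)
  · exact hnc.2 (mul_right_cancel (e.trans (neg_one_mul a).symm))

end SR

end Cfsg.Agent.ClassicalMax.SympMinus
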