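import Cfsg.Agent.ClassicalMax.SympMinus.Chart
import Cfsg.Agent.S5647

/-!
From the symplectic group on the fixed space of an involution to the whole one.
-/

set_option autoImplicit false
set_option linter.unusedSectionVars false

namespace Cfsg.Agent.ClassicalMax.SympMinus

open Matrix SympType Module Cfsg.Agent.Classical

variable {ι : Type*} [Fintype ι] [DecidableEq ι] {E : Type*} [Field E] [Finite E]

namespace SR

variable {R : Subgroup (GL ι E)} (h : SR R)
include h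

/-- A partner of square one. -/
theorem exists_invol_anti {x : GL ι E} (hx : x ∈ R) (x2 : x * x = 1) (x1 : NC x) :
    ∃ y ∈ R, y * y = 1 ∧ x * y = -(y * x) := by
  obtain ⟨y, hy, e⟩ := h.exists_anti hx x1
  rcases h.sq y hy with y2 | y2
  · exact ⟨y, hy, y2, (h.sg_neg_iff hx hy).1 e⟩
  · refine ⟨y * x, mul_mem hy hx, ?_, (h.sg_neg_iff hx (mul_mem hy hx)).1 ?_⟩
    · rw [h.mul_sq_anti hy hx (by rw [sg_comm, e]), y2, x2]; simp
    · rw [h.sg_mul_right hy hx hx, e, sg_self, mul_one]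

/-- In a hyperbolic pair there is a square minus one. -/
theorem exists_neg_of_pair {a b : GL ι E} (P : Pair R a b) :
    ∃ z t, z ∈ R ∧ t ∈ R ∧ z * z = -1 ∧ sg z t = -1 ∧
      ∀ s ∈ R, sg s a = 1 → sg s b = 1 → sg s z = 1 ∧ sg s t = 1 := by
  have hba : sg b a = -1 := by rw [sg_comm, P.anti]
  rcases h.tri_neg P with e | e | e
  · exact ⟨a, b, P.ha, P.hb, e, P.anti, fun s _ e1 e2 => ⟨e1, e2⟩⟩
  · exact ⟨b, a, P.hb, P.ha, e, hba, fun s _ e1 e2 => ⟨e2, e1⟩⟩
  · refine ⟨a * b, a, mul_mem P.ha P.hb, P.ha, e, by rw [h.sg_mul P.ha P.hb P.ha, sg_self, hba, one_mul],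
      fun s hs e1 e2 => ⟨by rw [h.sg_mul_right P.ha P.hb hs, e1, e2, one_mul], e1⟩⟩

/-- The ingredients of a move. -/
theorem exists_move (hn : 8 ≤ Fintype.card ι) {e u : GL ι E} (he : e ∈ R) (hu : u ∈ R) (he1 : NC e) (hu1 : NC u)
    (heu : NC (e * u)) :
    ∃ v ∈ R, ∃ w ∈ R, v * v = -1 ∧ w * w = -1 ∧ sg v e = 1 ∧ sg v u = -1 ∧ sg w e = 1 ∧ sg w u = 1 := by
  obtain ⟨d, hd, de, du, p, q, Q, pe, pu, pd, qe, qu, qd⟩ : ∃ d ∈ R, sg d e = 1 ∧ sg d u = -1 ∧ ∃ p q,
      Pair R p q ∧ sg p e = 1 ∧ sg p u = 1 ∧ sg p d = 1 ∧ sg q e = 1 ∧ sg q u = 1 ∧ sg q d = 1 := by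
    rcases h.sg_cases e u with eu | eu
    · obtain ⟨d, hd, de, du⟩ := h.sep he hu hu1 heu
      have P : Pair R u d := ⟨hu, hd, by rw [sg_comm, du]⟩
      obtain ⟨f, hf, hef⟩ := h.exists_anti he he1
      obtain ⟨i, hi, fu, fd⟩ := h.proj P hf
      have hiR := h.four_mem P hi
      have hie : sg i e = 1 := by
        rw [sg_comm]; exact h.four_sg P he eu (by rw [sg_comm, de]) hi
      have Q' : Pair R e (f * i) :=
        ⟨he, mul_mem hf hiR, by rw [sg_comm, h.sg_mul hf hiR he, hie, mul_one, sg_comm, hef]⟩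
      obtain ⟨p, q, Q, pu, pd, qu, qd, pe, -, qe, -⟩ :=
        h.exists_pair_perp₂ P Q' eu (by rw [sg_comm, de]) fu fd (by omega)
      exact ⟨d, hd, de, du, p, q, Q, pe, pu, pd, qe, qu, qd⟩
    · obtain ⟨p, q, Q, pe, pu, qe, qu⟩ := h.exists_pair_perp ⟨he, hu, eu⟩ (by omega)
      exact ⟨e, he, sg_self e, eu, p, q, Q, pe, pu, pe, qe, qu, qe⟩
  obtain ⟨w, t, hw, -, w2, -, hwperp⟩ := h.exists_neg_of_pair Q
  have sym : ∀ r ∈ R, sg p r = 1 → sg q r = 1 → sg w r = 1 := fun r hr e1 e2 => by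
    rw [sg_comm]
    exact (hwperp r hr (by rw [sg_comm, e1]) (by rw [sg_comm, e2])).1
  have we := sym e he pe qe
  have wu := sym u hu pu qu
  have wd := sym d hd pd qd
  rcases h.sq d hd with d2 | d2
  · exact ⟨d * w, mul_mem hd hw, w, hw, by rw [h.mul_sq_comm (by rw [sg_comm, wd]), d2, w2, one_mul], w2,
      by rw [h.sg_mul hd hw he, de, we, one_mul], by rw [h.sg_mul hd hw hu, du, wu, mul_one], we, wu⟩
  · exact ⟨d, hd, w, hw, d2, w2, de, du, we, wu⟩

/-- There are an involution and an element of square minus one. -/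
theorem exists_both (hn : 4 ≤ Fintype.card ι) :
    ∃ r ∈ R, ∃ z ∈ R, r * r = 1 ∧ NC r ∧ z * z = -1 := by
  obtain ⟨a, ha, a1⟩ : ∃ a ∈ R, NC a := by
    by_contra hc
    push Not at hc
    have hsub : (R : Set (GL ι E)) ⊆ {1, -1} := fun r hr => by
      have := hc r hr
      simp only [NC, not_and_or, not_not] at this
      simpa using this
    have h3 := Set.ncard_le_ncard hsub (Set.toFinite _)
    rw [← Nat.card_coe_set_eq] at h3
    change Nat.card R ≤ _ at h3
    rw [h.card] at h3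
    have := (Set.ncard_insert_le (1 : GL ι E) {-1}).trans_eq (by rw [Set.ncard_singleton])
    nlinarith
  obtain ⟨b, hb, hab⟩ := h.exists_anti ha a1
  obtain ⟨p, q, Q, pa, pb, qa, qb⟩ := h.exists_pair_perp ⟨ha, hb, hab⟩ hn
  obtain ⟨z, t, hz, ht, z2, zt, hzperp⟩ := h.exists_neg_of_pair ⟨ha, hb, hab⟩
  obtain ⟨w, t', hw, -, w2, -, hwperp⟩ := h.exists_neg_of_pair Q
  have hsw : ∀ s ∈ R, sg s a = 1 → sg s b = 1 → sg s z = 1 ∧ sg s t = 1 := hzperp
  have wa : sg w a = 1 := by rw [sg_comm]; exact (hwperp a ha (by rw [sg_comm, pa]) (by rw [sg_comm, qa])).1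
  have wb : sg w b = 1 := by rw [sg_comm]; exact (hwperp b hb (by rw [sg_comm, pb]) (by rw [sg_comm, qb])).1
  obtain ⟨wz, wt⟩ := hsw w hw wa wb
  refine ⟨z * w, mul_mem hz hw, z, hz, ?_, h.nc_of_sg (y := t) ?_, z2⟩
  · rw [h.mul_sq_comm (by rw [sg_comm, wz]), z2, w2]; simp
  · rw [h.sg_mul hz hw ht, zt, wt, mul_one]

set_option maxHeartbeats 800000 in
/-- If the centralisers of all noncentral elements normalise then everything does. -/
theorem normal_of_cents {J : Matrix ι ι E} (hJ : J ≠ 0) {K : Subgroup (GL ι E)} (hRJ : R ≤ Iso J) (hKJ : K ≤ Iso J)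
    (hRK : R ≤ K) (hlp : ∀ v ∈ R, ∀ w ∈ R, v * v = -1 → w * w = -1 → sc h.half * (tl v * tl w) ∈ K)
    (hn : 8 ≤ Fintype.card ι)
    (hcomm : ∀ x ∈ R, NC x → ∀ g ∈ K, g * x = x * g → Nm R g) : ∀ g ∈ K, Nm R g := by
  classical
  have hpm : ∀ x ∈ R, NC x → ∀ g ∈ K, g * x = x * g ∨ g * x = -(x * g) → Nm R g := fun x hx x1 g hg e => by
    rcases e with e | e
    · exact hcomm x hx x1 g hg e
    obtain ⟨y, hy, hxy⟩ := h.exists_anti hx x1
    have := hcomm x hx x1 (g * y) (mul_mem hg (hRK hy)) (by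
      rw [mul_assoc, ← neg_eq_iff_eq_neg.2 ((h.sg_neg_iff hx hy).1 hxy), mul_neg, ← mul_assoc, e, neg_mul, neg_neg,
        mul_assoc])
    simpa using this.mul (nm_of_mem (inv_mem hy))
  have hnegK : (-1 : GL ι E) ∈ K := hRK h.neg
  obtain ⟨Z, hZ⟩ : ∃ Z : Subgroup K, ∀ z : K, z ∈ Z ↔ (z : GL ι E) = 1 ∨ (z : GL ι E) = -1 :=
    ⟨{ carrier := {z : K | (z : GL ι E) = 1 ∨ (z : GL ι E) = -1}
       one_mem' := Or.inl rfl
       mul_mem' := fun {a b} ha hb => by
         simp only [Set.mem_ofPred_eq, Subgroup.coe_mul] at ha hb ⊢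
         rcases ha with e | e <;> rcases hb with e' | e' <;> simp [e, e']
       inv_mem' := fun {a} ha => by
         simp only [Set.mem_ofPred_eq, Subgroup.coe_inv] at ha ⊢
         rcases ha with e | e <;> simp [e] }, fun z => Iff.rfl⟩
  haveI : Z.Normal := ⟨fun z hz g => by
    rw [hZ] at hz ⊢
    rcases hz with e | e <;> simp [e]⟩
  obtain ⟨q, hq, hqs⟩ : ∃ q : K →* K ⧸ Z, (∀ g k : K, q g = q k ↔ (k : GL ι E) = g ∨ (k : GL ι E) = -(g : GL ι E)) ∧
      Function.Surjective q := by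
    refine ⟨QuotientGroup.mk' Z, fun g k => ?_, QuotientGroup.mk'_surjective Z⟩
    rw [QuotientGroup.mk'_eq_mk']
    constructor
    · rintro ⟨z, hz, rfl⟩
      rcases (hZ z).1 hz with e | e <;> simp [e]
    · rintro (e | e)
      · exact ⟨1, one_mem Z, by rw [mul_one]; exact (Subtype.ext e).symm⟩
      · exact ⟨⟨-1, hnegK⟩, (hZ _).2 (Or.inr rfl), (Subtype.ext (by rw [Subgroup.coe_mul, e]; simp)).symm⟩
  obtain ⟨A, hA⟩ : ∃ A : Subgroup (K ⧸ Z), ∀ u, u ∈ A ↔ ∃ c : K, (c : GL ι E) ∈ R ∧ q c = u :=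
    ⟨(R.subgroupOf K).map q, fun u => by simp only [Subgroup.mem_map, Subgroup.mem_subgroupOf]⟩
  have hmA : ∀ {c : K}, (c : GL ι E) ∈ R → q c ∈ A := fun hc => (hA _).2 ⟨_, hc, rfl⟩
  have hAR : ∀ {c : K}, q c ∈ A → (c : GL ι E) ∈ R := fun {c} hc => by
    obtain ⟨d, hd, e⟩ := (hA _).1 hc
    rcases (hq _ _).1 e with e' | e' <;> rw [e']
    exacts [hd, h.neg_mem hd]
  have hq1 : ∀ c : K, q c ≠ 1 → NC (c : GL ι E) := fun c hc => by
    constructor <;> intro e <;> refine hc ?_ <;> rw [← map_one q, hq] <;> simp [e]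
  obtain ⟨P, hP⟩ : ∃ P : K ⧸ Z → K ⧸ Z → Prop, ∀ g k : K, (P (q g) (q k) ↔ (g : GL ι E) * k = k * g) := by
    refine ⟨fun u v => ∀ g k : K, q g = u → q k = v → (g : GL ι E) * k = k * g, fun g k =>
      ⟨fun e => e g k rfl rfl, fun e g' k' e1 e2 => ?_⟩⟩
    rcases (hq g g').1 e1.symm with e' | e' <;> rcases (hq k k').1 e2.symm with e'' | e'' <;> simp [e', e'', e]
  obtain ⟨Q, hQ⟩ : ∃ Q : K ⧸ Z → Prop, ∀ g : K, Q (q g) ↔ (g : GL ι E) * g = 1 := by
    refine ⟨fun u => ∀ g : K, q g = u → (g : GL ι E) * g = 1, fun g =>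
      ⟨fun e => e g rfl, fun e g' e1 => ?_⟩⟩
    rcases (hq g g').1 e1.symm with e' | e' <;> simp [e', e]
  have hone : ((1 : GL ι E) = -1) → False := h.one_ne_neg_one
  have D : Data A P := by
    refine ⟨fun a ha => ?_, fun g hg => ?_, fun a ha => ?_, fun a ha b hb e => ?_, fun a ha b hb c hc => ?_,
      fun a ha hall => ?_, fun g _ a ha b hb e => ?_⟩
    · obtain ⟨c, hc, rfl⟩ := (hA a).1 ha
      rw [← map_mul, ← map_one q, hq]
      rcases h.sq _ hc with e | e <;> simp [e]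
    · obtain ⟨g, rfl⟩ := hqs g
      have hsg : ∀ x ∈ R, (g : GL ι E) * x = x * g ∨ (g : GL ι E) * x = -(x * g) := fun x hx => by
        have := hg _ (hmA (c := ⟨x, hRK hx⟩) hx)
        rw [← map_mul, ← map_mul, hq] at this
        simp only [Subgroup.coe_mul] at this
        rcases this with e | e
        · exact Or.inl e.symm
        · exact Or.inr (by rw [e, neg_neg])
      obtain ⟨s, hs, c, hc⟩ := h.mem_of_signs hsg
      have e2 : (c * c) • J = J := by
        conv_rhs => rw [← mem_iso.1 (hKJ g.2), hc]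
        rw [Matrix.transpose_smul, Matrix.smul_mul, Matrix.mul_smul, Matrix.smul_mul, smul_smul, mem_iso.1 (hRJ hs)]
      have e3 : (c * c - 1) • J = 0 := by rw [sub_smul, one_smul, e2, sub_self]
      rcases mul_self_eq_one_iff.1 (sub_eq_zero.1 ((smul_eq_zero.1 e3).resolve_right hJ)) with rfl | rfl
      · exact hmA ((show (g : GL ι E) = s from Units.ext (by rw [hc, one_smul])) ▸ hs)
      · exact hmA ((show (g : GL ι E) = -s from Units.ext (by rw [hc, neg_one_smul, Units.val_neg])) ▸ h.neg_mem hs)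
    · obtain ⟨c, -, rfl⟩ := (hA a).1 ha
      exact (hP _ _).2 rfl
    · obtain ⟨c, -, rfl⟩ := (hA a).1 ha
      obtain ⟨d, -, rfl⟩ := (hA b).1 hb
      exact (hP _ _).2 ((hP _ _).1 e).symm
    · obtain ⟨x, hx, rfl⟩ := (hA a).1 ha
      obtain ⟨y, hy, rfl⟩ := (hA b).1 hb
      obtain ⟨z, hz, rfl⟩ := (hA c).1 hc
      rw [← map_mul, hP, hP, hP, ← sg_eq_one_iff, ← sg_eq_one_iff, ← sg_eq_one_iff, Subgroup.coe_mul,
        h.sg_mul hx hy hz]
      rcases h.sg_cases (x : GL ι E) z with e1 | e1 <;> rcases h.sg_cases (y : GL ι E) z with e2 | e2 <;>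
        simp [e1, e2]
    · obtain ⟨x, hx, rfl⟩ := (hA a).1 ha
      rw [← map_one q, hq]
      rcases h.pm _ hx (fun y hy => (hP x ⟨y, hRK hy⟩).1 (hall _ (hmA hy))) with e | e <;> simp [e]
    · obtain ⟨g, rfl⟩ := hqs g
      obtain ⟨x, -, rfl⟩ := (hA a).1 ha
      obtain ⟨y, -, rfl⟩ := (hA b).1 hb
      rw [hP] at e
      rw [← map_inv, ← map_mul, ← map_mul, ← map_mul, ← map_mul, hP]
      simp only [Subgroup.coe_mul, Subgroup.coe_inv]
      calc _ = (g : GL ι E) * (x * y) * (g : GL ι E)⁻¹ := by group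
        _ = (g : GL ι E) * (y * x) * (g : GL ι E)⁻¹ := by rw [e]
        _ = _ := by group
  have hnz : ∀ g : K, Nm R (g : GL ι E) → q g ∈ nz A := fun g hg => D.mem_nz fun a ha => by
    obtain ⟨c, hc, rfl⟩ := (hA a).1 ha
    rw [← map_inv, ← map_mul, ← map_mul]
    exact hmA (by simpa using hg _ hc)
  have hquad : QuadOn A P Q := by
    refine ⟨fun a ha b hb => ?_, fun g _ a ha => ?_⟩
    · obtain ⟨x, hx, rfl⟩ := (hA a).1 ha
      obtain ⟨y, hy, rfl⟩ := (hA b).1 hb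
      rw [hP, ← map_mul, hQ, hQ, hQ, ← sg_eq_one_iff, Subgroup.coe_mul]
      rcases h.sg_cases (x : GL ι E) y with e | e
      · rw [h.mul_sq_comm e]
        rcases h.sq _ hx with e1 | e1 <;> rcases h.sq _ hy with e2 | e2 <;>
          simp [e, e1, e2, fun t : (-1 : GL ι E) = 1 => hone t.symm]
      · rw [h.mul_sq_anti hx hy e]
        rcases h.sq _ hx with e1 | e1 <;> rcases h.sq _ hy with e2 | e2 <;>
          simp [e, e1, e2, fun t : (-1 : GL ι E) = 1 => hone t.symm] <;>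
          exact fun t => hone t.symm
    · obtain ⟨g, rfl⟩ := hqs g
      obtain ⟨x, -, rfl⟩ := (hA a).1 ha
      rw [← map_inv, ← map_mul, ← map_mul, hQ, hQ]
      simp only [Subgroup.coe_mul, Subgroup.coe_inv]
      rw [show (g : GL ι E) * x * (g : GL ι E)⁻¹ * ((g : GL ι E) * x * (g : GL ι E)⁻¹) =
        (g : GL ι E) * (x * x) * (g : GL ι E)⁻¹ by group, conj_eq_one_iff]
  have hmove : Move A P := by
    intro a ha b hb a1 b1 hab
    obtain ⟨e, he, rfl⟩ := (hA a).1 ha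
    obtain ⟨u, hu, rfl⟩ := (hA b).1 hb
    obtain ⟨v, hv, w, hw, v2, w2, ve, vu, we, wu⟩ := h.exists_move hn he hu (hq1 _ a1) (hq1 _ b1) (by
      rw [← Subgroup.coe_mul]
      refine hq1 _ fun e1 => hab ?_
      rw [map_mul] at e1
      rw [← inv_eq_of_mul_eq_one_right e1, D.inv_eq (hmA he)])
    obtain ⟨N, hN⟩ : ∃ N, N = sc h.half * (tl v * tl w) := ⟨_, rfl⟩
    have hNn : Nm R N := hN ▸ h.lift_pair_nm hv hw v2 w2
    have hNK : N ∈ K := hN ▸ hlp v hv w hw v2 w2
    have conj : ∀ r : GL ι E, sg w r = 1 → N * r * N⁻¹ = tl v * r * (tl v)⁻¹ := fun r e1 => by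
      rw [hN, sc_conj', show tl v * tl w * r * (tl v * tl w)⁻¹ = tl v * (tl w * r * (tl w)⁻¹) * (tl v)⁻¹ by group,
        h.tl_fix w2 (sg_eq_one_iff.1 e1)]
    refine ⟨q ⟨N, hNK⟩, hnz _ hNn, ?_, fun hp => ?_⟩
    · rw [← map_inv, ← map_mul, ← map_mul]
      congr 1
      refine Subtype.ext ?_
      simp only [Subgroup.coe_mul, Subgroup.coe_inv]
      rw [conj _ we, h.tl_fix v2 (sg_eq_one_iff.1 ve)]
    · rw [← map_inv, ← map_mul, ← map_mul, hP] at hp
      simp only [Subgroup.coe_mul, Subgroup.coe_inv] at hp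
      rw [conj _ wu, h.tl_move v2 ((h.sg_neg_iff hv hu).1 vu), ← sg_eq_one_iff, h.sg_mul hv hu hu, vu, sg_self] at hp
      norm_num at hp
  have hcard : 4 < Nat.card A := by
    obtain ⟨f, hf⟩ : ∃ f : R →* A, ∀ r : R, (f r : K ⧸ Z) = q ⟨r, hRK r.2⟩ :=
      ⟨((q.comp (Subgroup.inclusion hRK)).codRestrict A fun r => hmA r.2), fun r => rfl⟩
    haveI : Finite R := inferInstance
    have hker : Nat.card f.ker ≤ 2 := by
      refine le_trans (Nat.card_le_card_of_injective (β := ({1, -1} : Set (GL ι E))) (fun r =>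
        ⟨((r : R) : GL ι E), ?_⟩) fun r s e => Subtype.ext (Subtype.ext (congrArg Subtype.val e :))) ?_
      · have := congrArg Subtype.val (MonoidHom.mem_ker.1 r.2)
        rw [hf, Subgroup.coe_one, ← map_one q, hq] at this
        rcases this with e | e
        · exact Or.inl e.symm
        · exact Or.inr (by rw [Set.mem_singleton_iff, ← neg_eq_iff_eq_neg]; exact e.symm)
      · rw [Nat.card_coe_set_eq]
        exact (Set.ncard_insert_le _ _).trans (by rw [Set.ncard_singleton])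
    have h1 := Subgroup.card_eq_card_quotient_mul_card_subgroup f.ker
    rw [Nat.card_congr (QuotientGroup.quotientKerEquivRange f).toEquiv, h.card] at h1
    have h3 := Subgroup.card_le_card_group f.range
    nlinarith
  have hC : ∀ a ∈ A, a ≠ 1 → ∀ g, g * a = a * g → g ∈ nz A := by
    intro a ha a1 g e
    obtain ⟨g, rfl⟩ := hqs g
    obtain ⟨x, hx, rfl⟩ := (hA a).1 ha
    rw [← map_mul, ← map_mul, hq] at e
    simp only [Subgroup.coe_mul] at e
    refine hnz g (hpm _ hx (hq1 _ a1) _ g.2 ?_)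
    rcases e with e | e
    · exact Or.inl e.symm
    · exact Or.inr (by rw [e, neg_neg])
  obtain ⟨r, hr, z, hz, r2, r1, z2⟩ := h.exists_both (by omega)
  have z1 := h.nc_of_neg z2
  have htop := D.eq_top_of_quad hquad hmove hcard hC (hmA (c := ⟨r, hRK hr⟩) hr) (fun e => by
      rw [← map_one q, hq] at e
      rcases e with e | e
      · exact r1.1 e.symm
      · exact r1.2 (by rw [← neg_neg r]; exact congrArg Neg.neg e.symm))
    ((hQ _).2 r2) (hmA (c := ⟨z, hRK hz⟩) hz) (fun e => hone (by rw [← z2]; exact ((hQ _).1 e).symm)) (fun e => by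
      rw [← map_one q, hq] at e
      rcases e with e | e
      · exact z1.1 e.symm
      · exact z1.2 (by rw [← neg_neg z]; exact congrArg Neg.neg e.symm))
  intro g hg r hr
  have h1 := D.conj_mem (g := q ⟨g, hg⟩) (htop ▸ Subgroup.mem_top _) (hmA (c := ⟨r, hRK hr⟩) hr)
  rw [← map_inv, ← map_mul, ← map_mul] at h1
  simpa using hAR h1

/-- If the centralisers of the involutions normalise then everything does. -/
theorem normal_of_cent {J : Matrix ι ι E} (hJ : J ≠ 0) {K : Subgroup (GL ι E)} (hRJ : R ≤ Iso J) (hKJ : K ≤ Iso J)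
    (hK : ∀ g ∈ Iso J, Nm R g → g ∈ K) (hn : 8 ≤ Fintype.card ι)
    (hS : ∀ x ∈ R, x * x = 1 → NC x → ∀ g ∈ K, g * x = x * g → Nm R g) : ∀ g ∈ K, Nm R g :=
  h.normal_of_cents hJ hRJ hKJ (fun r hr => hK r (hRJ hr) (nm_of_mem hr))
    (fun v hv w hw v2 w2 => hK _ (h.lift_pair_iso (hRJ hv) (hRJ hw) v2 w2) (h.lift_pair_nm hv hw v2 w2)) hn
    fun x hx x1 g hg e => by
      rcases h.sq x hx with x2 | x2
      · exact hS x hx x2 x1 g hg e
      · exact h.cent_four hJ hRJ hKJ hK hn hS hx x2 hg e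

end SR

section Main

variable {F : Type*} [Field F] [Fintype F] {n : ℕ}

local notation "W2" => Fin n ⊕ Fin n
local notation "G2" => GL (Fin n ⊕ Fin n) F

set_option maxHeartbeats 800000 in
/-- Everything preserving the two eigenspaces of an involution and one more element generate. -/
theorem full_of_eigen (hn : 3 ≤ n) {m : ℕ} (hnm : n = 2 * m) {x y k : G2} (h2 : (2 : F) ≠ 0)
    (hx : x ∈ Cfsg.spGL n F) (x2 : x * x = 1) (y2 : y * y = 1) (hxy : x * y = -(y * x))
    {K : Subgroup G2} (hK : K ≤ Cfsg.spGL n F) (hk : k ∈ K)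
    (hk1 : ¬ (k * x * k⁻¹ = x ∨ k * x * k⁻¹ = -x))
    (hmono : ∀ g ∈ Cfsg.spGL n F, g * x * g⁻¹ = x ∨ g * x * g⁻¹ = -x → g ∈ K) : Cfsg.spGL n F ≤ K := by
  classical
  obtain ⟨X, hX⟩ : ∃ X, X = Matrix.toLin' (x : Matrix W2 W2 F) := ⟨_, rfl⟩
  obtain ⟨Y, hY⟩ : ∃ Y, Y = Matrix.toLin' (y : Matrix W2 W2 F) := ⟨_, rfl⟩
  have hXX : ∀ v, X (X v) = v := fun v => by
    rw [hX, ← LinearMap.comp_apply, ← Matrix.toLin'_mul, ← Units.val_mul, x2, Units.val_one, Matrix.toLin'_one,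
      LinearMap.id_apply]
  have hYY : ∀ v, Y (Y v) = v := fun v => by
    rw [hY, ← LinearMap.comp_apply, ← Matrix.toLin'_mul, ← Units.val_mul, y2, Units.val_one, Matrix.toLin'_one,
      LinearMap.id_apply]
  have hXY : ∀ v, X (Y v) = -Y (X v) := fun v => by
    rw [hX, hY, ← LinearMap.comp_apply, ← Matrix.toLin'_mul, ← LinearMap.comp_apply, ← Matrix.toLin'_mul,
      ← Units.val_mul, hxy, Units.val_neg, Units.val_mul, map_neg, LinearMap.neg_apply]
  obtain ⟨s, hs⟩ : ∃ s : Fin 2 → F, s 0 = 1 ∧ s 1 = -1 := ⟨![1, -1], rfl, rfl⟩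
  obtain ⟨D, hD⟩ : ∃ D : Fin 2 → Submodule F (W2 → F), ∀ i v, v ∈ D i ↔ X v = s i • v :=
    ⟨fun i => LinearMap.eqLocus X (s i • LinearMap.id), fun i v => Iff.rfl⟩
  have hD0 : ∀ v, v ∈ D 0 ↔ X v = v := fun v => by rw [hD, hs.1, one_smul]
  have hD1 : ∀ v, v ∈ D 1 ↔ X v = -v := fun v => by rw [hD, hs.2, neg_one_smul]
  have hss : ∀ i, s i * s i = 1 := fun i => by fin_cases i <;> simp [hs.1, hs.2]
  have hcompl : IsCompl (D 0) (D 1) := by
    refine ⟨Submodule.disjoint_def.2 fun v h0 h1 => ?_, codisjoint_iff.2 (eq_top_iff.2 fun v _ => ?_)⟩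
    · rw [hD0] at h0
      rw [hD1, h0] at h1
      exact (smul_eq_zero.1 (show (2 : F) • v = 0 by rw [two_smul]; nth_rw 2 [h1]; exact add_neg_cancel v)).resolve_left h2
    · have e : v = (2 : F)⁻¹ • (v + X v) + (2 : F)⁻¹ • (v - X v) := by
        rw [← smul_add, show v + X v + (v - X v) = (2 : F) • v by rw [two_smul]; abel, smul_smul, inv_mul_cancel₀ h2,
          one_smul]
      rw [e]
      refine Submodule.add_mem_sup (Submodule.smul_mem _ _ ((hD0 _).2 ?_)) (Submodule.smul_mem _ _ ((hD1 _).2 ?_))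
      · rw [map_add, hXX, add_comm]
      · rw [map_sub, hXX, neg_sub]
  have hform : ∀ u v, Cfsg.sympForm n F (X u) (X v) = Cfsg.sympForm n F u v := fun u v => by
    rw [hX, Matrix.toLin'_apply, Matrix.toLin'_apply]
    exact hx u v
  have hperp : ∀ i j, i ≠ j → ∀ u ∈ D i, ∀ v ∈ D j, Cfsg.sympForm n F u v = 0 := by
    intro i j hij u hu v hv
    have e := hform u v
    rw [(hD i u).1 hu, (hD j v).1 hv, ← sympB_apply, ← sympB_apply] at e
    simp only [map_smul, LinearMap.smul_apply, smul_eq_mul, ← mul_assoc] at e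
    have : s j * s i = -1 := by
      fin_cases i <;> fin_cases j <;> simp [hs.1, hs.2] at hij ⊢
    rw [this, neg_one_mul, sympB_apply] at e
    exact (mul_eq_zero.1 (show (2 : F) * Cfsg.sympForm n F u v = 0 by linear_combination -e)).resolve_left h2
  have hnd : ∀ i, Cfsg.Geo.IsNondegenerateOn (Cfsg.sympForm n F) (D i) := by
    intro i w hw hw0
    obtain ⟨z, hz⟩ : ∃ z, sympB n F w z ≠ 0 := by
      by_contra hc
      push Not at hc
      exact hw0 (sympB_nondeg.1 w hc)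
    have hu : z + s i • X z ∈ D i := (hD i _).2 (by
      rw [map_add, map_smul, hXX, smul_add, smul_smul, hss, one_smul, add_comm])
    have hne : sympB n F w (z + s i • X z) ≠ 0 := by
      have e : sympB n F w (X z) = s i * sympB n F w z := by
        rw [sympB_apply, sympB_apply, ← hform w (X z), hXX, (hD i w).1 hw, ← sympB_apply, ← sympB_apply, map_smul,
          LinearMap.smul_apply, smul_eq_mul]
      rw [map_add, map_smul, smul_eq_mul, e, ← mul_assoc, hss, one_mul, ← two_mul]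
      exact mul_ne_zero h2 hz
    refine ⟨⟨_, hu, ?_⟩, _, hu, by rw [← sympB_apply]; exact hne⟩
    rw [← sympB_apply, Alt.neg' sympB_isAlt w]
    exact neg_ne_zero.2 hne
  have hrank : ∀ i, Module.finrank F (D i) = n := by
    have hYinj : Function.Injective Y := fun u v e => by rw [← hYY u, ← hYY v, e]
    have hmap : ∀ i j, i ≠ j → (D i).map Y ≤ D j := by
      rintro i j hij _ ⟨u, hu, rfl⟩
      rw [hD, hXY, (hD i u).1 hu, map_smul, ← neg_smul]
      congr 1
      fin_cases i <;> fin_cases j <;> simp [hs.1, hs.2] at hij ⊢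
    have e1 : Module.finrank F (D 0) ≤ Module.finrank F (D 1) :=
      (Submodule.equivMapOfInjective Y hYinj (D 0)).finrank_eq.trans_le (Submodule.finrank_mono (hmap 0 1 (by decide)))
    have e2 : Module.finrank F (D 1) ≤ Module.finrank F (D 0) :=
      (Submodule.equivMapOfInjective Y hYinj (D 1)).finrank_eq.trans_le (Submodule.finrank_mono (hmap 1 0 (by decide)))
    have e3 := Submodule.finrank_add_eq_of_isCompl hcompl
    rw [Module.finrank_fintype_fun_eq_card, Fintype.card_sum, Fintype.card_fin] at e3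
    intro i
    fin_cases i <;> simp only [Fin.zero_eta, Fin.mk_one] <;> omega
  have hiff : ∀ g : G2, g ∈ Cfsg.Geo.decompositionStabilizer D → g * x * g⁻¹ = x ∨ g * x * g⁻¹ = -x := by
    rintro g ⟨σ, hσ⟩
    have key : ∀ i, ∀ v ∈ D i, X (Matrix.toLin' (g : Matrix W2 W2 F) v) =
        s (σ i) • Matrix.toLin' (g : Matrix W2 W2 F) v := fun i v hv =>
      (hD _ _).1 (hσ i ▸ Submodule.mem_map_of_mem hv)
    have fin : ∀ c : F, (∀ i, s (σ i) = c * s i) →
        (Matrix.toLin' (g : Matrix W2 W2 F)).comp X = c • (X.comp (Matrix.toLin' (g : Matrix W2 W2 F))) := by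
      intro c hc
      refine LinearMap.ext fun v => ?_
      obtain ⟨a, ha, b, hb, rfl⟩ := Submodule.mem_sup.1 (hcompl.sup_eq_top ▸ Submodule.mem_top (x := v))
      have hc2 : c * c = 1 := by
        have := hc 0
        rw [hs.1, mul_one] at this
        rw [← this, hss]
      simp only [LinearMap.comp_apply, map_add, LinearMap.smul_apply, smul_add, key 0 a ha, key 1 b hb, (hD0 a).1 ha,
        (hD1 b).1 hb, hc, smul_neg, smul_smul, hs.1, hs.2, map_neg, mul_one, mul_neg, hc2, one_smul, neg_smul]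
    have fin' : ∀ c : F, (∀ i, s (σ i) = c * s i) →
        ((g * x : G2) : Matrix W2 W2 F) = c • ((x * g : G2) : Matrix W2 W2 F) := fun c hc => by
      refine Matrix.toLin'.injective ?_
      rw [map_smul, Units.val_mul, Units.val_mul, Matrix.toLin'_mul, Matrix.toLin'_mul, ← hX]
      exact fin c hc
    rcases (show ∀ τ : Equiv.Perm (Fin 2), τ 0 = 0 ∧ τ 1 = 1 ∨ τ 0 = 1 ∧ τ 1 = 0 by decide) σ with ⟨a0, a1⟩ | ⟨a0, a1⟩
    · refine Or.inl (mul_inv_eq_iff_eq_mul.2 (Units.ext ?_))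
      rw [fin' 1 fun i => by fin_cases i <;> simp [a0, a1], one_smul]
    · refine Or.inr (mul_inv_eq_iff_eq_mul.2 (Units.ext ?_))
      rw [fin' (-1) fun i => by fin_cases i <;> simp [a0, a1, hs.1, hs.2], neg_one_smul, neg_mul, Units.val_neg]
  have hdec : Cfsg.Geo.IsNondegenerateMDecomposition (Cfsg.sympForm n F) n D :=
    ⟨⟨le_rfl, by omega, hrank, (iSupIndep_pair (by decide : (0 : Fin 2) ≠ 1) (fun i => by fin_cases i <;> simp)).2
      hcompl.disjoint, eq_top_iff.2 (hcompl.sup_eq_top.ge.trans (sup_le (le_iSup D 0) (le_iSup D 1)))⟩, hnd, hperp⟩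
  have hmax := Cfsg.Agent.S5647.maximal n hn n D hdec (fun e => by omega)
  rcases hmax.2 K (fun g hg => hmono g hg.2 (hiff g hg.1)) hK with e | e
  · exact absurd (hiff k ((e ▸ hk : k ∈ Cfsg.Geo.decompositionStabilizer D ⊓ Cfsg.spGL n F).1)) hk1
  · exact e.ge

/-- The dichotomy climbs. -/
theorem dich_step {m : ℕ} (hm : 2 ≤ m) (hnm : n = 2 * m) (h2 : (2 : F) ≠ 0) (hq : Dich (Matrix.J (Fin m) F)) :
    Dich (Matrix.J (Fin n) F) := by
  classical
  intro R hR hM hRJ K hKJ hK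
  have hJ : (Matrix.J (Fin n) F) ≠ 0 := fun e => by
    have hu := (Matrix.isUnit_det_J (Fin n) F)
    haveI := hR.nonempty
    rw [e, Matrix.det_zero] at hu
    exact not_isUnit_zero hu
  have hcardι : Fintype.card (Fin n ⊕ Fin n) = 4 * m := by simp; omega
  have hRK : R ≤ K := fun r hr => hK r (hRJ hr) (nm_of_mem hr)
  -- the coordinates of an involution
  have hblk : ∀ x ∈ R, x * x = 1 → NC x → ∃ y ∈ R, y * y = 1 ∧ x * y = -(y * x) ∧
      ∃ c : Chart (Matrix.J (Fin n) F) (Matrix.fromBlocks (Matrix.J (Fin m) F) 0 0 (Matrix.J (Fin m) F)),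
        c.φ x = dg (1 : GL (Fin m ⊕ Fin m) F) (-1) ∧ c.φ y = sw ∧
        Blk (Matrix.J (Fin m) F) (c.img R) (c.img K) := by
    intro x hx x2 x1
    obtain ⟨y, hy, y2, hxy⟩ := hR.exists_invol_anti hx x2 x1
    haveI : Nonempty (Fin n ⊕ Fin n) := hR.nonempty
    obtain ⟨m', c, hm', hcx, hcy⟩ := exists_chart (sympB_isAlt (F := F) (m := n)) (sympB_nondeg (F := F) (m := n)) h2
      (hRJ hx) (hRJ hy) x2 y2 hxy
    obtain rfl : m' = m := by omega
    refine ⟨y, hy, y2, hxy, c, hcx, hcy, ⟨c.img_sr hR, c.img_minus hM, c.img_le hRJ, c.img_le hKJ, fun g hg hn => ?_,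
      hcx ▸ c.mem_img.2 hx, hcy ▸ c.mem_img.2 hy, fun e => ?_⟩⟩
    · obtain ⟨g, rfl⟩ := c.φ.surjective g
      exact c.mem_img.2 (hK g ((c.iso g).1 hg) (c.img_nm.1 hn))
    · haveI : Nonempty (Fin m' ⊕ Fin m') := ⟨Sum.inl ⟨0, by omega⟩⟩
      have hu := Matrix.isUnit_det_J (Fin m') F
      rw [e, Matrix.det_zero] at hu
      exact not_isUnit_zero hu
  have hκ : 4 ≤ Fintype.card (Fin m ⊕ Fin m) := by simp; omega
  by_cases hall : ∀ x ∈ R, x * x = 1 → NC x → Small R K x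
  · left
    refine hR.normal_of_cent hJ hRJ hKJ hK (by omega) fun x hx x2 x1 g hg e => ?_
    obtain ⟨y, hy, y2, hxy, c, hcx, hcy, hB⟩ := hblk x hx x2 x1
    refine c.img_nm.1 (hB.cent_nm hκ (fun w' hw' w2 w1 => ?_) (c.mem_img.2 hg) (by rw [← hcx, ← map_mul, e, map_mul]))
    obtain ⟨w, hw, rfl⟩ := c.exists_pre hw'
    refine c.img_small.2 (hall w hw (c.φ.injective (by rw [map_mul, w2, map_one])) ⟨fun e1 => w1.1 ?_, fun e1 => w1.2 ?_⟩)
    · rw [e1, map_one]
    · rw [e1, c.φ_neg_one]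
  · right
    push Not at hall
    obtain ⟨x, hx, x2, x1, hns⟩ := hall
    obtain ⟨y, hy, y2, hxy, c, hcx, hcy, hB⟩ := hblk x hx x2 x1
    have hfull := (hB.small_or_full hq (simple_symp hm h2) hκ).resolve_left fun hs =>
      hns (c.img_small.1 (hcx ▸ hs))
    have hcentK : ∀ g ∈ Iso (Matrix.J (Fin n) F), g * x = x * g → g ∈ K := fun g hg e => by
      obtain ⟨a, b, hab⟩ := comm_dg h2 (g := c.φ g) (by rw [← hcx, ← map_mul, e, map_mul])
      have hgI := (c.iso g).2 hg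
      rw [show Units.mapEquiv c.ψ.toMulEquiv g = c.φ g from rfl, hab, dg_mem_iso] at hgI
      exact c.mem_img.1 (hab ▸ hfull a hgI.1 b hgI.2)
    have hsxy : sg x y = -1 := (hR.sg_neg_iff hx hy).2 hxy
    have hsyx : sg y x = -1 := by rw [sg_comm, hsxy]
    obtain ⟨p, q, Q, px, py, qx, qy⟩ := hR.exists_pair_perp ⟨hx, hy, hsxy⟩ (by omega)
    obtain ⟨w, t', hw, -, w2, -, hwp⟩ := hR.exists_neg_of_pair Q
    have hwx : sg w x = 1 := by rw [sg_comm]; exact (hwp x hx (by rw [sg_comm, px]) (by rw [sg_comm, qx])).1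
    have ha := mul_mem hy hx
    have hax : sg (y * x) x = -1 := by rw [hR.sg_mul hy hx hx, hsyx, sg_self, mul_one]
    have a2 : y * x * (y * x) = -1 := by rw [hR.mul_sq_anti hy hx hsyx, y2, x2, one_mul]
    have a1 := hR.nc_of_neg a2
    intro g hg
    refine full_of_eigen (n := n) (by omega) hnm (x := x) (y := y) (k := sc hR.half * (tl (y * x) * tl w)) h2
      (mem_iso_spGL.1 (hRJ hx)) x2 y2 hxy (fun g hg => mem_iso_spGL.1 (hKJ hg))
      (hK _ (hR.lift_pair_iso (hRJ ha) (hRJ hw) a2 w2) (hR.lift_pair_nm ha hw a2 w2)) ?_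
      (fun g hg e => ?_) (mem_iso_spGL.1 hg)
    · rw [sc_conj', show tl (y * x) * tl w * x * (tl (y * x) * tl w)⁻¹ =
        tl (y * x) * (tl w * x * (tl w)⁻¹) * (tl (y * x))⁻¹ by group, hR.tl_fix w2 (sg_eq_one_iff.1 hwx),
        hR.tl_move a2 ((hR.sg_neg_iff ha hx).1 hax)]
      rintro (e | e)
      · exact a1.1 (mul_eq_right.1 e)
      · exact a1.2 (mul_right_cancel (e.trans (neg_one_mul x).symm))
    · rcases e with e | e
      · exact hcentK g (mem_iso_spGL.2 hg) (mul_inv_eq_iff_eq_mul.1 e)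
      · have := hcentK (g * y) (mul_mem (mem_iso_spGL.2 hg) (hRJ hy)) (by
          rw [mul_assoc, ← neg_eq_iff_eq_neg.2 hxy, mul_neg, ← mul_assoc, mul_inv_eq_iff_eq_mul.1 e]
          simp only [neg_mul, neg_neg, mul_assoc])
        simpa using mul_mem this (inv_mem (hRK hy))

end Main

end Cfsg.Agent.ClassicalMax.SympMinus
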